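import Cfsg.Agent.Lib.L43Three.CaseB.Final
import Cfsg.Agent.Lib.L43Three.CaseB.Invol.Main

/-!
S3373, case B: a homomorphism of `SL(4,3)` with kernel `±1` containing the centraliser of a
transvection and controlling the fusion of transvections is surjective.
-/

set_option autoImplicit false
set_option linter.style.haveILetI false

namespace Cfsg.Agent.L43Three.CaseB

open Subgroup

/-- The endgame of case B. -/
theorem range_eq_top {G : Type*} [Group G] [Finite G] (f : S4 →* G)
    (hker : ∀ x, f x = 1 ↔ x = 1 ∨ x = -1)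
    (hC : centralizer ({f z4} : Set G) ≤ f.range)
    (hfus : ∀ x, x ^ 3 = 1 → IsConj (f z4) (f x) → ∃ h, h * z4 * h⁻¹ = x) : f.range = ⊤ :=
  let P : Hyp G := ⟨f, hker, hC, hfus⟩
  P.range_eq_top_of (P.centralizer_t4 (fun _ a b => P.centralizer_three a b)
    (fun _ _ a b c => P.mem_of_three a b c))

end Cfsg.Agent.L43Three.CaseB
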