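import Cfsg.Agent.Lib.L43Three.CaseB.Code
import Mathlib.GroupTheory.GroupAction.ConjAct
import Mathlib.GroupTheory.OrderOfElement

/-!
S3373, case B: the hypotheses, and the consequences of the fusion control of transvections.
-/

set_option autoImplicit false
set_option linter.style.haveILetI false
set_option linter.unusedSectionVars false
set_option maxHeartbeats 400000

namespace Cfsg.Agent.L43Three.CaseB

open Matrix Subgroup

/-- The transvection `1 + E₀₃`. -/
def z4 : S4 := SpecialLinearGroup.transvection (i := 0) (j := 3) (by decide) 1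

/-- The code of the transvection `1 + E₀₃`. -/
def zM : M4 :=
  ⟨⟨.o, .z, .z, .o⟩, ⟨.z, .o, .z, .z⟩, ⟨.z, .z, .o, .z⟩, ⟨.z, .z, .z, .o⟩⟩

theorem code_z4 : code z4 = zM := by decide +kernel

/-- The diagonal involution `diag(-1,-1,1,1)`. -/
def tM : M4 :=
  ⟨⟨.d, .z, .z, .z⟩, ⟨.z, .d, .z, .z⟩, ⟨.z, .z, .o, .z⟩, ⟨.z, .z, .z, .o⟩⟩

/-- The diagonal involution `diag(-1,-1,1,1)`. -/
def t4 : S4 := mk4 tM (by decide +kernel)

theorem code_t4 : code t4 = tM := code_mk4 _ _

/-- A homomorphism of `SL(4,3)` with kernel `±1`, whose image contains the centraliser of a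
transvection and controls the fusion of transvections among elements of order three. -/
structure Hyp (G : Type*) [Group G] [Finite G] where
  /-- the homomorphism -/
  f : S4 →* G
  ker : ∀ x, f x = 1 ↔ x = 1 ∨ x = -1
  cent : centralizer ({f z4} : Set G) ≤ f.range
  fus : ∀ x, x ^ 3 = 1 → IsConj (f z4) (f x) → ∃ h, h * z4 * h⁻¹ = x

/-- A conjugate of the transvection `1 + E₀₃`. -/
def Pure (p : S4) : Prop := ∃ h, h * z4 * h⁻¹ = p

namespace Hyp

variable {G : Type*} [Group G] [Finite G] (P : Hyp G)
include P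

/-- The image of a negated element. -/
theorem f_neg (x : S4) : P.f (-x) = P.f x := by
  rw [← neg_one_mul x, map_mul, (P.ker _).2 (Or.inr rfl), one_mul]

theorem eq_iff {x y : S4} : P.f x = P.f y ↔ x = y ∨ x = -y := by
  constructor
  · intro h
    rcases (P.ker (x * y⁻¹)).1 (by rw [map_mul, map_inv, h, mul_inv_cancel]) with e | e
    · refine Or.inl ?_
      rw [mul_inv_eq_iff_eq_mul, one_mul] at e
      exact e
    · refine Or.inr ?_
      rw [mul_inv_eq_iff_eq_mul] at e
      rw [e, neg_one_mul]
  · rintro (rfl | rfl)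
    · rfl
    · exact P.f_neg y

/-- An element of the image whose cube is one lifts to an element whose cube is one. -/
theorem lift_three {x : S4} (h : P.f x ^ 3 = 1) : ∃ y, P.f y = P.f x ∧ y ^ 3 = 1 := by
  rw [← map_pow] at h
  rcases (P.ker _).1 h with e | e
  · exact ⟨x, rfl, e⟩
  · refine ⟨-x, P.f_neg x, ?_⟩
    rw [pow_three] at e ⊢
    refine code_injective ?_
    have h2 := congrArg code e
    simp only [code_mul, code_neg, code_one] at h2 ⊢
    generalize code x = m at h2 ⊢
    exact M4.toMat_inj (by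
      have h3 := congrArg M4.toMat h2
      simp only [M4.toMat_mul, M4.toMat_neg, M4.toMat_one, neg_mul, mul_neg, neg_neg] at h3 ⊢
      rw [h3, neg_neg])

/-- An element of cube one is the only lift of cube one of its image. -/
theorem eq_of_cube {x y : S4} (h : P.f x = P.f y) (hx : x ^ 3 = 1) (hy : y ^ 3 = 1) : x = y := by
  rcases P.eq_iff.1 h with e | e
  · exact e
  · exfalso
    subst e
    have h1 : (-1 : S4) ^ 3 = 1 := by rwa [← neg_one_mul, (Commute.neg_one_left y).mul_pow, hy,
      mul_one] at hx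
    exact absurd (congrArg code h1) (by decide +kernel)

/-- Fusion of transvections: an element conjugating the image of one into the image lies in the
image. -/
theorem mem_of_pure {p : S4} (hp : Pure p) {g : G} (h : g * P.f p * g⁻¹ ∈ P.f.range) :
    g ∈ P.f.range := by
  obtain ⟨a, rfl⟩ := hp
  obtain ⟨x, hx⟩ := h
  have hz : z4 ^ 3 = 1 := code_injective (by decide +kernel)
  have hx3 : P.f x ^ 3 = 1 := by
    rw [hx, conj_pow, map_mul, map_mul, map_inv, conj_pow, ← map_pow, hz, map_one, mul_one,
      mul_inv_cancel, mul_one, mul_inv_cancel]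
  obtain ⟨y, hy, hy3⟩ := P.lift_three hx3
  rw [← hy, map_mul, map_mul, map_inv] at hx
  obtain ⟨b, hb⟩ := P.fus y hy3 (isConj_iff.2 ⟨g * P.f a, by rw [hx]; group⟩)
  have hc : (P.f b)⁻¹ * (g * P.f a) ∈ centralizer ({P.f z4} : Set G) := by
    rw [mem_centralizer_singleton_iff]
    rw [← hb, map_mul, map_mul, map_inv] at hx
    calc (P.f b)⁻¹ * (g * P.f a) * P.f z4
        = (P.f b)⁻¹ * (g * (P.f a * P.f z4 * (P.f a)⁻¹) * g⁻¹) * (g * P.f a) := by group
      _ = P.f z4 * ((P.f b)⁻¹ * (g * P.f a)) := by rw [← hx]; group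
  have h1 := P.cent hc
  have e : g = P.f b * ((P.f b)⁻¹ * (g * P.f a)) * (P.f a)⁻¹ := by group
  rw [e]
  exact mul_mem (mul_mem ⟨b, rfl⟩ h1) (inv_mem ⟨a, rfl⟩)

/-- The centraliser of the image of a transvection lies in the image. -/
theorem centralizer_pure {p : S4} (hp : Pure p) :
    centralizer ({P.f p} : Set G) ≤ P.f.range := fun g hg =>
  P.mem_of_pure hp (by
    rw [mem_centralizer_singleton_iff.1 hg, mul_inv_cancel_right]; exact ⟨p, rfl⟩)

/-- If the centraliser of an element of the image lies in the image and meets the class of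
transvections, the element has control of fusion in the image. -/
theorem mem_of_cent {s p : S4} (hp : Pure p) (hps : p * s = s * p) {g : G}
    (h : g * P.f s * g⁻¹ ∈ P.f.range)
    (hc : ∀ y, P.f y = g * P.f s * g⁻¹ → centralizer ({P.f y} : Set G) ≤ P.f.range) :
    g ∈ P.f.range := by
  obtain ⟨y, hy⟩ := h
  refine P.mem_of_pure hp (hc y hy (mem_centralizer_singleton_iff.2 ?_))
  have e : P.f p * P.f s = P.f s * P.f p := by rw [← map_mul, hps, map_mul]
  rw [hy]
  calc g * P.f p * g⁻¹ * (g * P.f s * g⁻¹) = g * (P.f p * P.f s) * g⁻¹ := by group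
    _ = g * (P.f s * P.f p) * g⁻¹ := by rw [e]
    _ = g * P.f s * g⁻¹ * (g * P.f p * g⁻¹) := by group

end Hyp

end Cfsg.Agent.L43Three.CaseB
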