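import Cfsg.Agent.Lib.L43Three.CaseB.Setup
import Mathlib.GroupTheory.PGroup
import Mathlib.Algebra.Group.TypeTags.Finite
import Mathlib.GroupTheory.Exponent
import Mathlib.GroupTheory.SpecificGroups.Cyclic

/-!
S3373, case B: elementary abelian subgroups of order nine, and elements of the image commuting
with elements of order three.
-/

set_option autoImplicit false
set_option linter.style.haveILetI false
set_option linter.unusedSectionVars false
set_option maxHeartbeats 200000

namespace Cfsg.Agent.L43Three.CaseB

open Subgroup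

/-- The elementary abelian group of order nine. -/
abbrev E9 : Type := Multiplicative (K × K)

/-- A homomorphism from `E9` given by codes. -/
def mkElem (g : E9 → M4) (hd : ∀ v, (g v).det = .o)
    (hm : ∀ u v, M4.mul (g u) (g v) = g (u * v)) : E9 →* S4 :=
  MonoidHom.mk' (fun v => mk4 (g v) (hd v)) fun u v => (mk4_mul_mk4 (hm u v)).symm

theorem code_mkElem (g : E9 → M4) (hd) (hm) (v : E9) : code (mkElem g hd hm v) = g v :=
  code_mk4 (g v) (hd v)

theorem e9_cube : ∀ v : E9, v ^ 3 = 1 := by decide

section

variable {G : Type*} [Group G] (φ : E9 →* G)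

theorem elem_comm : IsMulCommutative φ.range :=
  ⟨⟨fun ⟨a, u, hu⟩ ⟨b, v, hv⟩ => Subtype.ext (by
    show a * b = b * a
    rw [← hu, ← hv, ← map_mul, ← map_mul, mul_comm])⟩⟩

theorem elem_pgroup : IsPGroup 3 φ.range := fun ⟨a, u, hu⟩ => ⟨1, Subtype.ext (by
  show a ^ 3 ^ 1 = 1
  rw [← hu, pow_one, ← map_pow, e9_cube, map_one])⟩

theorem elem_not_cyclic (hinj : ∀ v, φ v = 1 → v = 1) : ¬ IsCyclic φ.range := by
  intro hc
  have h1 := IsCyclic.exponent_eq_card (α := φ.range)
  have h2 : Monoid.exponent φ.range ∣ 3 := Monoid.exponent_dvd_of_forall_pow_eq_one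
    fun ⟨a, u, hu⟩ => Subtype.ext (by
      show a ^ 3 = 1
      rw [← hu, ← map_pow, e9_cube, map_one])
  rw [h1, ← Nat.card_congr (MonoidHom.ofInjective ((injective_iff_map_eq_one φ).2 hinj)).toEquiv,
    Nat.card_eq_fintype_card] at h2
  have h9 : Fintype.card E9 = 9 := by decide
  rw [h9] at h2
  exact absurd h2 (by decide)

end

/-- A code which is neither one nor minus one. -/
def Proper (m : M4) : Prop := m ≠ M4.one ∧ m ≠ M4.neg M4.one

instance : DecidablePred Proper := fun m => inferInstanceAs (Decidable (_ ∧ _))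

namespace Hyp

variable {G : Type*} [Group G] [Finite G] (P : Hyp G)
include P

theorem ne_one_of_proper {x : S4} (h : Proper (code x)) : P.f x ≠ 1 := fun e =>
  (P.ker x).1 e |>.elim (fun e' => h.1 (by rw [e', code_one]))
    fun e' => h.2 (by rw [e', code_neg, code_one])

/-- An element whose image commutes with that of an element of cube one commutes with it. -/
theorem commute_of {x s : S4} (hs : s ^ 3 = 1)
    (h : P.f x * P.f s = P.f s * P.f x) : x * s = s * x := by
  have e : P.f (x * s * x⁻¹) = P.f s := by
    rw [map_mul, map_mul, map_inv, h, mul_inv_cancel_right]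
  have e2 := P.eq_of_cube e (by rw [conj_pow, hs, mul_one, mul_inv_cancel]) hs
  rw [mul_inv_eq_iff_eq_mul] at e2
  exact e2

/-- The part of the image in the centraliser of an element of cube one. -/
theorem exists_commute {s : S4} (hs : s ^ 3 = 1) {g : G}
    (h : g ∈ centralizer ({P.f s} : Set G)) (hg : g ∈ P.f.range) :
    ∃ x, P.f x = g ∧ x * s = s * x := by
  obtain ⟨x, rfl⟩ := hg
  exact ⟨x, rfl, P.commute_of hs (mem_centralizer_singleton_iff.1 h)⟩

theorem mem_centralizer_of_code {x s : S4} (h : M4.mul (code x) (code s) = M4.mul (code s) (code x)) :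
    P.f x ∈ centralizer ({P.f s} : Set G) :=
  mem_centralizer_singleton_iff.2 (by rw [← map_mul, (commute_iff_code x s).2 h, map_mul])

end Hyp

/-- A code conjugate to that of `z4` gives a pure element. -/
theorem pure_of_code {x : S4} (h : M4) (hd : h.det = .o)
    (e : M4.mul h zM = M4.mul (code x) h) : Pure x :=
  ⟨mk4 h hd, by
    rw [mul_inv_eq_iff_eq_mul]
    refine code_injective ?_
    rw [code_mul, code_mul, code_mk4, code_z4, e]⟩

end Cfsg.Agent.L43Three.CaseB
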