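import Cfsg.Agent.Lib.L43Three.CaseB.Tools
import Cfsg.Agent.Lib.L43Three.CaseB.Elem

/-!
S3373, case B: the centraliser of the regular unipotent element of degree three.
-/

set_option autoImplicit false
set_option maxRecDepth 40000
set_option maxHeartbeats 400000
set_option linter.constructorNameAsVariable false
set_option linter.style.haveILetI false
set_option linter.unusedSectionVars false

namespace Cfsg.Agent.L43Three.CaseB

open Subgroup

/-- The code of `1 + E₀₁ + E₁₂`. -/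
def yM : M4 :=
  ⟨⟨.o, .o, .z, .z⟩, ⟨.z, .o, .o, .z⟩, ⟨.z, .z, .o, .z⟩, ⟨.z, .z, .z, .o⟩⟩

/-- The element `1 + E₀₁ + E₁₂`. -/
def y4 : S4 := mk4 yM (by decide +kernel)

/-- The commutant of `1 + E₀₁ + E₁₂`. -/
def formY (a b c d e g : F3) : M4 :=
  ⟨⟨a, b, c, d⟩, ⟨.z, a, b, .z⟩, ⟨.z, .z, a, .z⟩, ⟨.z, .z, e, g⟩⟩

theorem R4.smul_eq (k : F3) (u : R4) :
    R4.smul k u = ⟨k.mul u.a, k.mul u.b, k.mul u.c, k.mul u.d⟩ := by
  cases k <;> rfl

theorem F3.mul_z : ∀ a : F3, a.mul .z = .z := by decide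
theorem F3.mul_o : ∀ a : F3, a.mul .o = a := by decide
theorem F3.z_mul : ∀ a : F3, F3.mul .z a = .z := by decide
theorem F3.o_mul : ∀ a : F3, F3.mul .o a = a := by decide
theorem F3.add_z : ∀ a : F3, a.add .z = a := by decide
theorem F3.z_add : ∀ a : F3, F3.add .z a = a := by decide

theorem commute_yM {m : M4} (h : M4.mul m yM = M4.mul yM m) :
    m = formY m.r0.a m.r0.b m.r0.c m.r0.d m.r3.c m.r3.d := by
  obtain ⟨⟨a, b, c, d⟩, ⟨p, q, r, s⟩, ⟨t, u, v, w⟩, ⟨i, j, k, l⟩⟩ := m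
  simp only [M4.mul, M4.rmul, yM, R4.smul_eq, R4.add, F3.mul_z, F3.mul_o, F3.z_mul, F3.o_mul,
    F3.add_z, F3.z_add, M4.mk.injEq, R4.mk.injEq] at h
  obtain ⟨⟨h1, h2, h3, h4⟩, ⟨h5, h6, h7, h8⟩, ⟨h9, h10, h11, h12⟩, ⟨h13, h14, h15, h16⟩⟩ := h
  have k1 : ∀ a p : F3, a = a.add p → p = .z := by decide
  have k2 : ∀ a b : F3, a.add b = b → a = .z := by decide
  have k3 : ∀ a b q : F3, a.add b = b.add q → q = a := by decide
  obtain rfl := k1 _ _ h1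
  obtain rfl := k3 _ _ _ h2
  obtain rfl := k1 _ _ h8
  obtain rfl := k1 _ _ h4
  obtain rfl := k2 _ _ h10
  obtain rfl := k2 _ _ h14
  obtain rfl := k2 _ _ h15
  obtain rfl := k2 _ _ h11
  obtain rfl := k3 _ _ _ h7
  obtain rfl := k3 _ _ _ h3
  rfl

theorem det_form_y : ∀ a b c d e g : F3, (formY a b c d e g).det = .o →
    M4.pow (formY a b c d e g) 3 = M4.one ∨ M4.pow (formY a b c d e g) 3 = M4.neg M4.one := by
  decide +kernel

/-- The code of the transvection `1 + u E₀₂ + v E₀₃`. -/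
def aY (v : E9) : M4 :=
  ⟨⟨.o, .z, F3.ofK v.toAdd.1, F3.ofK v.toAdd.2⟩, ⟨.z, .o, .z, .z⟩, ⟨.z, .z, .o, .z⟩,
    ⟨.z, .z, .z, .o⟩⟩

/-- The transvections `1 + u E₀₂ + v E₀₃`. -/
def AY : E9 →* S4 := mkElem aY (by decide +kernel) (by decide +kernel)

/-- Conjugators from `1 + E₀₃`. -/
def hY : F3 → F3 → M4
  | .z, .d => ⟨⟨.d, .o, .z, .z⟩, ⟨.z, .d, .z, .z⟩, ⟨.z, .z, .o, .z⟩, ⟨.z, .z, .z, .o⟩⟩
  | .o, .z => ⟨⟨.o, .z, .z, .z⟩, ⟨.z, .o, .z, .z⟩, ⟨.z, .z, .z, .o⟩, ⟨.z, .z, .d, .o⟩⟩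
  | .o, .o => ⟨⟨.o, .z, .z, .z⟩, ⟨.z, .o, .z, .z⟩, ⟨.z, .z, .o, .z⟩, ⟨.z, .z, .d, .o⟩⟩
  | .o, .d => ⟨⟨.d, .o, .z, .z⟩, ⟨.z, .d, .z, .z⟩, ⟨.z, .z, .o, .z⟩, ⟨.z, .z, .o, .o⟩⟩
  | .d, .z => ⟨⟨.o, .z, .z, .z⟩, ⟨.z, .o, .z, .z⟩, ⟨.z, .z, .z, .d⟩, ⟨.z, .z, .o, .o⟩⟩
  | .d, .o => ⟨⟨.o, .z, .z, .z⟩, ⟨.z, .o, .z, .z⟩, ⟨.z, .z, .o, .z⟩, ⟨.z, .z, .o, .o⟩⟩
  | .d, .d => ⟨⟨.o, .z, .z, .z⟩, ⟨.z, .o, .z, .z⟩, ⟨.z, .z, .d, .o⟩, ⟨.z, .z, .o, .o⟩⟩
  | _, _ => M4.one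

theorem AY_pure (v : E9) (hv : v ≠ 1) : Pure (AY v) := by
  have key : ∀ v : E9, v ≠ 1 →
      let h := hY (F3.ofK v.toAdd.1) (F3.ofK v.toAdd.2)
      h.det = .o ∧ M4.mul h zM = M4.mul (aY v) h := by decide +kernel
  exact pure_of_code _ (key v hv).1 (by rw [AY, code_mkElem]; exact (key v hv).2)

namespace Hyp

variable {G : Type*} [Group G] [Finite G] (P : Hyp G)
include P

theorem AY_injective : ∀ v, (P.f.comp AY) v = 1 → v = 1 := by
  intro v hv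
  by_contra hne
  have key : ∀ v : E9, v ≠ 1 → Proper (aY v) := by decide +kernel
  exact P.ne_one_of_proper (x := AY v) (by rw [AY, code_mkElem]; exact key v hne) hv

/-- The centraliser of the regular unipotent element of degree three lies in the image. -/
theorem centralizer_y4 : centralizer ({P.f y4} : Set G) ≤ P.f.range := by
  have y3 : y4 ^ 3 = 1 := code_injective (by
    rw [code_pow, y4, code_mk4, code_one]; decide +kernel)
  set X : Subgroup G := centralizer ({P.f y4} : Set G) with hX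
  have memX : ∀ g ∈ X, g ∈ P.f.range → ∃ x a b c d e k,
      P.f x = g ∧ code x = formY a b c d e k ∧ (formY a b c d e k).det = .o := by
    intro g hg hgR
    obtain ⟨x, hx, hc⟩ := P.exists_commute y3 hg hgR
    have h := (commute_iff_code x y4).1 hc
    rw [y4, code_mk4] at h
    have e := commute_yM h
    exact ⟨x, _, _, _, _, _, _, hx, e, by rw [← e]; exact det_code x⟩
  have hW : IsPGroup 3 (X ⊓ P.f.range : Subgroup G) := fun g => ⟨1, Subtype.ext (by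
    obtain ⟨x, a, b, c, d, e, k, hx, hcode, hdet⟩ := memX g g.2.1 g.2.2
    rw [pow_one, coe_pow, coe_one, ← hx, ← map_pow, P.ker]
    rcases det_form_y a b c d e k hdet with h | h
    · exact Or.inl (code_injective (by rw [code_pow, hcode, h, code_one]))
    · exact Or.inr (code_injective (by rw [code_pow, hcode, h, code_neg, code_one])))⟩
  have hAX : (P.f.comp AY).range ≤ X ⊓ P.f.range := by
    rintro _ ⟨v, rfl⟩
    refine ⟨P.mem_centralizer_of_code ?_, ⟨_, rfl⟩⟩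
    rw [AY, code_mkElem, y4, code_mk4]
    revert v; decide +kernel
  haveI := elem_comm (P.f.comp AY)
  let w : E9 := Multiplicative.ofAdd (1, 0)
  refine P.le_of_threeGroup hW (AY_pure w (by decide)) (hAX ⟨w, rfl⟩).1 ?_
    (elem_not_cyclic _ P.AY_injective) hAX ?_
  · intro g hg hgR
    obtain ⟨x, a, b, c, d, e, k, hx, hcode, hdet⟩ := memX g hg hgR
    rw [← hx, ← map_mul, ← map_mul]
    refine congrArg P.f ((commute_iff_code _ _).2 ?_)
    rw [hcode, AY, code_mkElem]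
    revert hdet
    clear hcode
    revert a b c d e k
    decide +kernel
  · rintro _ ⟨v, rfl⟩ hne
    exact P.centralizer_pure (AY_pure v fun e => hne (by rw [e, map_one]))

end Hyp

end Cfsg.Agent.L43Three.CaseB
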