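import Cfsg.Agent.Lib.L43Three.CaseB.CentXModel
import Cfsg.Agent.Lib.L43Three.CaseB.CentY
import Cfsg.Agent.Lib.A9Three.Small
import Cfsg.Agent.Lib.A9Three.Nine
import Cfsg.Agent.Lib.A9Three.Three
import Mathlib.GroupTheory.QuotientGroup.Basic

/-!
S3373, case B: the centraliser of `1 + E₀₂ + E₁₃` lies in the image.
-/

set_option autoImplicit false
set_option maxRecDepth 40000
set_option maxHeartbeats 400000
set_option linter.constructorNameAsVariable false
set_option linter.style.haveILetI false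
set_option linter.unusedSectionVars false

namespace Cfsg.Agent.L43Three.CaseB

open Subgroup
open Cfsg.Agent.ThreeTI.Mono
open Cfsg.Agent.ThreeTI.Cube (V)
open Cfsg.Agent.A9Three (vec va vb vc cg)

theorem commute_xM {m : M4} (h : M4.mul m xM = M4.mul xM m) :
    m = formX m.r0.a m.r0.b m.r1.a m.r1.b m.r0.c m.r0.d m.r1.c m.r1.d := by
  obtain ⟨⟨a, b, c, d⟩, ⟨p, q, r, s⟩, ⟨t, u, v, w⟩, ⟨i, j, k, l⟩⟩ := m
  simp only [M4.mul, M4.rmul, xM, R4.smul_eq, R4.add, F3.mul_z, F3.mul_o, F3.z_mul, F3.o_mul,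
    F3.add_z, F3.z_add, M4.mk.injEq, R4.mk.injEq] at h
  obtain ⟨⟨h1, h2, h3, h4⟩, ⟨h5, h6, h7, h8⟩, -, -⟩ := h
  have k1 : ∀ a p : F3, a = a.add p → p = .z := by decide
  have k2 : ∀ a c v : F3, a.add c = c.add v → v = a := by decide
  obtain rfl := k1 _ _ h1
  obtain rfl := k1 _ _ h2
  obtain rfl := k2 _ _ _ h3
  obtain rfl := k2 _ _ _ h4
  obtain rfl := k1 _ _ h5
  obtain rfl := k1 _ _ h6
  obtain rfl := k2 _ _ _ h7
  obtain rfl := k2 _ _ _ h8
  rfl

theorem x4_cube : x4 ^ 3 = 1 :=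
  code_injective (by rw [code_pow, code_x4, code_one]; decide +kernel)

/-- The element of a translation and a scalar. -/
def elemX (c : F3) (m : Mo) : S4 := mk4 (elX c m) (det_elX c m)

theorem code_elemX (c : F3) (m : Mo) : code (elemX c m) = elX c m := code_mk4 _ _

/-- The translations. -/
def uS : V →* S4 :=
  MonoidHom.mk' (fun v => mk4 (uM .z v) (det_uM _ _)) fun v w =>
    (mk4_mul_mk4 (uM_mul .z .z v w)).symm

theorem uS_apply (v : V) : uS v = mk4 (uM .z v) (det_uM _ _) := rfl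

/-- The plane of translations with coordinate sum zero. -/
def planeV : E9 →* Mo :=
  inJ.comp (MonoidHom.mk' (fun a => vec a.toAdd.1 a.toAdd.2 (-a.toAdd.1 - a.toAdd.2))
    (by decide +kernel))

theorem planeV_class : ∀ a : E9, a ≠ 1 → planeV a = inJ (planeV a).left ∧
    (planeV a).left ≠ 1 ∧
    (cl (inJ (planeV a).left) = cl (inJ vb) ∨ cl (inJ (planeV a).left) = cl (inJ vc)) := by
  decide +kernel

theorem planeV_injective : ∀ a : E9, planeV a = 1 → a = 1 := by decide +kernel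

theorem cent_twelve : ∀ n : Mo, n * inQ ⟨12⟩ = inQ ⟨12⟩ * n → n ^ 9 = 1 := by decide +kernel

theorem right_one_cube : ∀ v : V, (inJ v) ^ 9 = (1 : Mo) := by decide +kernel

theorem pure_vc : Pure (elemX .z (inJ vc)) :=
  pure_of_code M4.one (by decide +kernel) (by rw [code_elemX]; decide +kernel)

theorem pure_vb : Pure (elemX .o (inJ vb)) :=
  pure_of_code ⟨⟨.o, .z, .z, .z⟩, ⟨.o, .o, .z, .z⟩, ⟨.z, .z, .z, .d⟩, ⟨.z, .z, .o, .o⟩⟩
    (by decide +kernel) (by rw [code_elemX]; decide +kernel)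

namespace Hyp

variable {G : Type*} [Group G] [Finite G] (P : Hyp G)
include P

/-- The rotations. -/
def dG : Rot →* G :=
  MonoidHom.mk' (fun q => P.f (mk4 (dM q) (det_dM q))) fun q r => by
    rw [← map_mul, P.eq_iff]
    rcases dM_mul q r with h | h
    · exact Or.inl (code_injective (by rw [code_mul, code_mk4, code_mk4, code_mk4, h]))
    · refine Or.inr (code_injective ?_)
      rw [code_neg, code_mul, code_mk4, code_mk4, code_mk4, h]
      generalize dM (q * r) = m
      exact M4.toMat_inj (by rw [M4.toMat_neg, M4.toMat_neg, neg_neg])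

/-- The monomial group. -/
def phiG : Mo →* G :=
  SemidirectProduct.lift (P.f.comp uS) P.dG fun q => by
    refine MonoidHom.ext fun v => ?_
    show P.f (uS (actFn q v)) = P.dG q * P.f (uS v) * (P.dG q)⁻¹
    rw [eq_mul_inv_iff_mul_eq]
    show P.f (uS (actFn q v)) * P.f (mk4 (dM q) _) = P.f (mk4 (dM q) _) * P.f (uS v)
    rw [← map_mul, ← map_mul]
    refine congrArg P.f (code_injective ?_)
    rw [code_mul, code_mul, uS_apply, uS_apply, code_mk4, code_mk4, code_mk4, dM_uM]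

theorem phiG_eq (m : Mo) : P.phiG m = P.f (elemX .z m) := by
  show P.f (uS m.left) * P.f (mk4 (dM m.right) _) = _
  rw [← map_mul]
  refine congrArg P.f (code_injective ?_)
  rw [code_mul, uS_apply, code_mk4, code_mk4, code_elemX]
  rfl

/-- The centraliser. -/
abbrev Cx : Subgroup G := centralizer ({P.f x4} : Set G)

theorem x4_mem : P.f x4 ∈ P.Cx := mem_centralizer_singleton_iff.2 rfl

theorem elemX_mem (c : F3) (m : Mo) : P.f (elemX c m) ∈ P.Cx :=
  P.mem_centralizer_of_code (by rw [code_elemX, code_x4]; exact elX_comm c m)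

/-- The subgroup generated by the element. -/
abbrev Zx : Subgroup P.Cx := zpowers ⟨P.f x4, P.x4_mem⟩

instance Zx_normal : P.Zx.Normal := ⟨fun n hn g => by
  obtain ⟨i, rfl⟩ := mem_zpowers_iff.1 hn
  have hc : Commute g ⟨P.f x4, P.x4_mem⟩ := Subtype.ext (mem_centralizer_singleton_iff.1 g.2)
  rw [(hc.zpow_right i).eq, mul_inv_cancel_right]
  exact hn⟩

/-- The monomial group in the centraliser. -/
def phiC : Mo →* P.Cx := P.phiG.codRestrict _ fun m => by rw [P.phiG_eq]; exact P.elemX_mem _ _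

/-- The monomial group in the quotient. -/
def iotaX : Mo →* P.Cx ⧸ P.Zx := (QuotientGroup.mk' P.Zx).comp P.phiC

theorem uM_pow (k : F3) (h : (uM k 1).det = .o) :
    ∃ i : ℕ, P.f (mk4 (uM k 1) h) = P.f x4 ^ i := by
  cases k
  · exact ⟨0, by rw [pow_zero, P.ker]; exact Or.inl (code_injective (by
      rw [code_mk4, code_one]; exact uM_one.1))⟩
  · exact ⟨1, by rw [pow_one]; exact congrArg P.f (code_injective (by
      rw [code_mk4, code_x4]; exact uM_one.2.1))⟩
  · exact ⟨2, by rw [← map_pow]; exact congrArg P.f (code_injective (by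
      rw [code_mk4, pow_two, code_mul, code_x4]; exact uM_one.2.2))⟩

theorem elemX_split (c : F3) (m : Mo) : ∃ i : ℕ, P.f (elemX c m) = P.f x4 ^ i * P.phiG m := by
  obtain ⟨i, hi⟩ := P.uM_pow c (det_uM _ _)
  refine ⟨i, ?_⟩
  rw [← hi, P.phiG_eq, ← map_mul]
  refine congrArg P.f (code_injective ?_)
  rw [code_mul, code_mk4, code_elemX, code_elemX, ← elX_split]

theorem mk_elemX (c : F3) (m : Mo) :
    QuotientGroup.mk' P.Zx ⟨P.f (elemX c m), P.elemX_mem c m⟩ = P.iotaX m := by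
  obtain ⟨i, hi⟩ := P.elemX_split c m
  have e : (⟨P.f (elemX c m), P.elemX_mem c m⟩ : P.Cx) = ⟨P.f x4, P.x4_mem⟩ ^ i * P.phiC m :=
    Subtype.ext hi
  rw [e, map_mul, (QuotientGroup.eq_one_iff _).2 (pow_mem (mem_zpowers _) i) |> fun h =>
    (show QuotientGroup.mk' P.Zx ((⟨P.f x4, P.x4_mem⟩ : P.Cx) ^ i) = 1 from h), one_mul]
  rfl

theorem mk_mem_iff (g : P.Cx) :
    QuotientGroup.mk' P.Zx g ∈ P.iotaX.range ↔ (g : G) ∈ P.f.range := by
  constructor
  · rintro ⟨m, hm⟩
    obtain ⟨z, hz, e⟩ := (QuotientGroup.mk'_eq_mk' P.Zx).1 hm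
    obtain ⟨i, rfl⟩ := mem_zpowers_iff.1 hz
    rw [← e]
    push_cast
    refine mul_mem ?_ (zpow_mem (show P.f x4 ∈ P.f.range from ⟨x4, rfl⟩) i)
    exact ⟨elemX .z m, (P.phiG_eq m).symm⟩
  · intro hg
    obtain ⟨x, hx, hc⟩ := P.exists_commute x4_cube g.2 hg
    have h := (commute_iff_code x x4).1 hc
    rw [code_x4] at h
    have e := commute_xM h
    have hd := det_code x
    rw [e] at hd
    have hs := decX_spec _ _ _ _ _ _ _ _ hd
    rw [← e] at hs
    generalize decX _ _ _ _ _ _ _ _ = cm at hs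
    refine ⟨cm.2, ?_⟩
    rw [← P.mk_elemX cm.1 cm.2]
    refine congrArg _ (Subtype.ext (show P.f (elemX cm.1 cm.2) = g from ?_))
    rw [← hx, P.eq_iff]
    rcases hs with hs | hs
    · exact Or.inl (code_injective (by rw [code_elemX, hs]))
    · refine Or.inr (code_injective ?_)
      rw [code_neg, code_elemX, hs]
      exact M4.toMat_inj (by rw [M4.toMat_neg, M4.toMat_neg, neg_neg])

theorem iotaX_injective : Function.Injective P.iotaX := by
  refine (injective_iff_map_eq_one _).2 fun m hm => ?_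
  have h : P.phiC m ∈ P.Zx := (QuotientGroup.eq_one_iff _).1 hm
  obtain ⟨i, hi⟩ := mem_zpowers_iff.1 h
  have hi' : P.f x4 ^ i = P.f (elemX .z m) := (congrArg Subtype.val hi).trans (P.phiG_eq m)
  have hx3 : P.f x4 ^ (3 : ℤ) = 1 := by
    rw [zpow_ofNat, ← map_pow, x4_cube, map_one]
  rw [zpow_eq_zpow_emod' i (n := 3) (by rw [← zpow_natCast]; exact hx3)] at hi'
  obtain ⟨k, hk⟩ : ∃ k : F3, P.f (mk4 (uM k 1) (det_uM _ _)) = P.f (elemX .z m) := by
    have h0 := Int.emod_nonneg i (show (3 : ℤ) ≠ 0 by norm_num)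
    have h3 := Int.emod_lt_of_pos i (show (0 : ℤ) < 3 by norm_num)
    rw [← hi']
    rcases (show i % 3 = 0 ∨ i % 3 = 1 ∨ i % 3 = 2 by omega) with e | e | e <;>
      simp only [Nat.cast_ofNat, e]
    · exact ⟨.z, by rw [zpow_zero, P.ker]; exact Or.inl (code_injective (by
        rw [code_mk4, code_one]; exact uM_one.1))⟩
    · exact ⟨.o, by rw [zpow_one]; exact congrArg P.f (code_injective (by
        rw [code_mk4, code_x4]; exact uM_one.2.1))⟩
    · exact ⟨.d, by rw [zpow_ofNat, ← map_pow]; exact congrArg P.f (code_injective (by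
        rw [code_mk4, pow_two, code_mul, code_x4]; exact uM_one.2.2))⟩
  refine elX_one k m ?_
  rcases P.eq_iff.1 hk.symm with e | e
  · exact Or.inl (by rw [← code_elemX, e, code_mk4])
  · exact Or.inr (by rw [← code_elemX, e, code_neg, code_mk4])

/-- An element of the quotient moving a model element with a pure lift inside the model lies in
the model. -/
theorem mem_of_pure_lift {c : F3} {m : Mo} (hp : Pure (elemX c m)) {g : P.Cx ⧸ P.Zx}
    (h : g * P.iotaX m * g⁻¹ ∈ P.iotaX.range) : g ∈ P.iotaX.range := by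
  obtain ⟨g, rfl⟩ := QuotientGroup.mk'_surjective P.Zx g
  rw [← P.mk_elemX c m, ← map_inv, ← map_mul, ← map_mul, P.mk_mem_iff] at h
  push_cast at h
  exact (P.mk_mem_iff g).2 (P.mem_of_pure hp h)

theorem cg_le_of_pure {c : F3} {v : V} (hp : Pure (elemX c (inJ v))) :
    cg P.iotaX v ≤ P.iotaX.range := fun g hg =>
  P.mem_of_pure_lift hp (by
    rw [mem_centralizer_singleton_iff.1 hg, mul_inv_cancel_right]; exact ⟨_, rfl⟩)

theorem cent_le_conj {a b : Mo} (h : IsConj a b)
    (ha : centralizer ({P.iotaX a} : Set (P.Cx ⧸ P.Zx)) ≤ P.iotaX.range) :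
    centralizer ({P.iotaX b} : Set (P.Cx ⧸ P.Zx)) ≤ P.iotaX.range := by
  obtain ⟨n, rfl⟩ := isConj_iff.1 h
  intro g hg
  have hg' : (P.iotaX n)⁻¹ * g * P.iotaX n ∈ centralizer ({P.iotaX a} : Set (P.Cx ⧸ P.Zx)) := by
    refine mem_centralizer_singleton_iff.2 ?_
    have h2 := mem_centralizer_singleton_iff.1 hg
    rw [map_mul, map_mul, map_inv] at h2
    calc (P.iotaX n)⁻¹ * g * P.iotaX n * P.iotaX a
        = (P.iotaX n)⁻¹ * (g * (P.iotaX n * P.iotaX a * (P.iotaX n)⁻¹)) * P.iotaX n := by group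
      _ = _ := by rw [h2]; group
  have := ha hg'
  rw [show g = P.iotaX n * ((P.iotaX n)⁻¹ * g * P.iotaX n) * (P.iotaX n)⁻¹ by group]
  exact mul_mem (mul_mem ⟨n, rfl⟩ this) (inv_mem ⟨n, rfl⟩)

theorem cg_split {v : V} (h : cl (inJ v) = cl (inJ vb) ∨ cl (inJ v) = cl (inJ vc)) :
    cg P.iotaX v ≤ P.iotaX.range := by
  rcases h with h | h
  · exact P.cent_le_conj (isConj_of_cl h.symm) (P.cg_le_of_pure pure_vb)
  · exact P.cent_le_conj (isConj_of_cl h.symm) (P.cg_le_of_pure pure_vc)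

theorem cent_outside : centralizer ({P.iotaX (inQ ⟨12⟩)} : Set (P.Cx ⧸ P.Zx)) ≤ P.iotaX.range := by
  intro g hg
  obtain ⟨g, rfl⟩ := QuotientGroup.mk'_surjective P.Zx g
  have hg2 := mem_centralizer_singleton_iff.1 hg
  rw [← P.mk_elemX .o (inQ ⟨12⟩), ← map_mul, ← map_mul] at hg2
  obtain ⟨z, hz, e⟩ := (QuotientGroup.mk'_eq_mk' P.Zx).1 hg2
  obtain ⟨i, rfl⟩ := mem_zpowers_iff.1 hz
  have e' : (g : G) * P.f (elemX .o (inQ ⟨12⟩)) * P.f x4 ^ i = P.f (elemX .o (inQ ⟨12⟩)) * g :=
    congrArg Subtype.val e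
  set s := P.f (elemX .o (inQ ⟨12⟩)) with hs
  set w : V := vec 1 2 1
  have hp : Pure (elemX .z (inJ w)) :=
    pure_of_code ⟨⟨.d, .o, .z, .z⟩, ⟨.d, .z, .z, .z⟩, ⟨.z, .z, .o, .z⟩, ⟨.z, .z, .o, .o⟩⟩
      (by decide +kernel) (by rw [code_elemX]; decide +kernel)
  set p := P.f (elemX .z (inJ w))
  have hps : p * s = s * p := by
    rw [← map_mul, ← map_mul]
    exact congrArg P.f (code_injective (by
      rw [code_mul, code_mul, code_elemX, code_elemX]; decide +kernel))
  have hgx : Commute (g : G) (P.f x4) := mem_centralizer_singleton_iff.1 g.2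
  have hpx : Commute p (P.f x4) := mem_centralizer_singleton_iff.1 (P.elemX_mem _ _)
  have hcs : centralizer ({s} : Set G) ≤ P.f.range := by
    let h : M4 := ⟨⟨.o, .d, .o, .o⟩, ⟨.o, .o, .z, .z⟩, ⟨.z, .d, .o, .o⟩, ⟨.z, .d, .z, .o⟩⟩
    have hd : h.det = .o := by decide +kernel
    have he : elemX .o (inQ ⟨12⟩) * mk4 h hd = mk4 h hd * y4 := code_injective (by
      rw [code_mul, code_mul, code_elemX, code_mk4, y4, code_mk4]; decide +kernel)
    have he' : s * P.f (mk4 h hd) = P.f (mk4 h hd) * P.f y4 := by rw [← map_mul, ← map_mul, he]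
    intro a ha
    have ha' : (P.f (mk4 h hd))⁻¹ * a * P.f (mk4 h hd) ∈ centralizer ({P.f y4} : Set G) := by
      refine mem_centralizer_singleton_iff.2 ?_
      calc (P.f (mk4 h hd))⁻¹ * a * P.f (mk4 h hd) * P.f y4
          = (P.f (mk4 h hd))⁻¹ * (a * s) * P.f (mk4 h hd) := by
            rw [mul_assoc _ (P.f (mk4 h hd)), ← he']; group
        _ = (P.f (mk4 h hd))⁻¹ * (s * a) * P.f (mk4 h hd) := by
            rw [mem_centralizer_singleton_iff.1 ha]
        _ = (P.f (mk4 h hd))⁻¹ * (s * P.f (mk4 h hd)) *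
            ((P.f (mk4 h hd))⁻¹ * a * P.f (mk4 h hd)) := by group
        _ = _ := by rw [he']; group
    have := P.centralizer_y4 ha'
    rw [show a = P.f (mk4 h hd) * ((P.f (mk4 h hd))⁻¹ * a * P.f (mk4 h hd)) *
      (P.f (mk4 h hd))⁻¹ by group]
    exact mul_mem (mul_mem ⟨_, rfl⟩ this) (inv_mem ⟨_, rfl⟩)
  have es : s = g * s * (g : G)⁻¹ * P.f x4 ^ i := by
    calc s = (g : G) * s * P.f x4 ^ i * (g : G)⁻¹ := by rw [e']; group
      _ = _ := by rw [mul_assoc _ (P.f x4 ^ i), ((hgx.inv_left).zpow_right i).eq.symm]; group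
  have h1 : Commute ((g : G) * p * (g : G)⁻¹) ((g : G) * s * (g : G)⁻¹) :=
    Commute.map hps (MulAut.conj (g : G)).toMonoidHom
  have h2 : Commute ((g : G) * p * (g : G)⁻¹) (P.f x4) :=
    ((hgx.mul_left hpx).mul_left hgx.inv_left)
  refine (P.mk_mem_iff g).2 (P.mem_of_pure hp (hcs (mem_centralizer_singleton_iff.2 ?_)))
  have h3 := h1.mul_right (h2.zpow_right i)
  rw [← es] at h3
  exact h3.eq

theorem cfgX : A9Three.Cfg P.iotaX where
  inj := P.iotaX_injective
  norm := fun g hg => P.mem_of_pure_lift pure_vc (by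
    have h := (mem_normalizer_iff.1 hg _).1 (A9Three.Cfg.mem_J (ι := P.iotaX) vc)
    obtain ⟨v, hv⟩ := h
    exact ⟨inJ v, hv⟩)
  cores := fun m hm => by
    haveI : Fact (Nat.Prime 3) := ⟨Nat.prime_three⟩
    set Y := centralizer ({P.iotaX m} : Set (P.Cx ⧸ P.Zx)) with hY
    set K₀ := Cfsg.pPrimeCore 3 Y with hK₀
    haveI : K₀.Normal := Cfsg.pPrimeCore_normal 3 Y
    set K : Subgroup (P.Cx ⧸ P.Zx) := K₀.map Y.subtype with hK
    have hKcard : ¬ 3 ∣ Nat.card K := by
      rw [hK, card_map_of_injective Y.subtype_injective]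
      exact (Nat.Prime.coprime_iff_not_dvd Nat.prime_three).1
        (PBasic.pPrimeCore_coprime 3 Y).symm
    have hYK : ∀ y ∈ Y, ∀ k ∈ K, y * k * y⁻¹ ∈ K := by
      rintro y hy _ ⟨k, hk, rfl⟩
      exact ⟨_, Normal.conj_mem inferInstance k hk ⟨y, hy⟩, rfl⟩
    have hm3 : m ^ 3 = 1 := by
      have := pow_orderOf_eq_one m
      rwa [hm] at this
    have hm1 : m ≠ 1 := fun e => by rw [e, orderOf_one] at hm; omega
    rcases em (m.right = 1) with hr | hr
    · have hJY : ∀ v, P.iotaX (inJ v) ∈ Y := fun v => mem_centralizer_singleton_iff.2 (by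
        rw [← map_mul, ← map_mul, A9Three.eq_inJ_of_right hr, ← map_mul, ← map_mul, mul_comm])
      haveI := elem_comm (P.iotaX.comp planeV)
      have hKle : K ≤ P.iotaX.range := by
        refine le_of_coprime (A := (P.iotaX.comp planeV).range) (elem_not_cyclic _ fun a ha =>
          planeV_injective a (P.iotaX_injective (ha.trans (map_one _).symm)))
          (elem_pgroup _) ?_ hKcard ?_
        · rintro _ ⟨a, rfl⟩
          have hy : P.iotaX (planeV a) ∈ Y := hJY _
          exact mem_normalizer_iff.2 fun k => ⟨hYK _ hy k, fun h => by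
            have := hYK _ (inv_mem hy) _ h
            simpa [mul_assoc] using this⟩
        · rintro _ ⟨a, rfl⟩ ha
          obtain ⟨e, -, hc⟩ := planeV_class a fun e => ha (by rw [e, map_one])
          rw [MonoidHom.comp_apply, e]
          exact P.cg_split hc
      rw [eq_bot_iff]
      intro k hk
      obtain ⟨n, hn⟩ := hKle ⟨k, hk, rfl⟩
      have key : ∀ v, n * inJ v = inJ v * n := fun v => by
        have hmem : P.iotaX (inJ v * n * (inJ v)⁻¹ * n⁻¹) ∈ K := by
          rw [map_mul, map_mul, map_mul, map_inv, map_inv, hn]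
          exact mul_mem (hYK _ (hJY v) _ ⟨k, hk, rfl⟩) (inv_mem ⟨k, hk, rfl⟩)
        have hJ : inJ v * n * (inJ v)⁻¹ * n⁻¹ = inJ (v * actFn n.right v⁻¹) := by
          rw [map_mul, ← A9Three.conj_inJ, map_inv]; group
        have h1 : orderOf (P.iotaX (inJ v * n * (inJ v)⁻¹ * n⁻¹)) ∣ Nat.card K :=
          Subgroup.orderOf_dvd_natCard K hmem
        have h2 : orderOf (P.iotaX (inJ v * n * (inJ v)⁻¹ * n⁻¹)) ∣ 9 :=
          orderOf_dvd_of_pow_eq_one (by rw [hJ, ← map_pow, right_one_cube, map_one])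
        have h3 := Nat.eq_one_of_dvd_coprimes
          (((Nat.Prime.coprime_iff_not_dvd Nat.prime_three).2 hKcard).pow_left 2) h2 h1
        have h4 := P.iotaX_injective ((orderOf_eq_one_iff.1 h3).trans (map_one _).symm)
        rw [mul_inv_eq_one, mul_inv_eq_iff_eq_mul] at h4
        exact h4.symm
      have hnr : n.right = 1 := A9Three.cent_J _ ((A9Three.commute_inJ_iff n _).1 (key _))
        ((A9Three.commute_inJ_iff n _).1 (key _)) ((A9Three.commute_inJ_iff n _).1 (key _))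
      have hk9 : orderOf (Y.subtype k) ∣ 9 := orderOf_dvd_of_pow_eq_one (by
        rw [← hn, ← map_pow, A9Three.eq_inJ_of_right hnr, right_one_cube, map_one])
      have := Nat.eq_one_of_dvd_coprimes
        (((Nat.Prime.coprime_iff_not_dvd Nat.prime_three).2 hKcard).pow_left 2) hk9
        (Subgroup.orderOf_dvd_natCard K ⟨k, hk, rfl⟩)
      rw [Subgroup.mem_bot]
      exact Subtype.ext (orderOf_eq_one_iff.1 this)
    · have hcl : cl (inQ ⟨12⟩) = cl m :=
        ((A9Three.three_cases m (by rw [← pow_three']; exact hm3)).resolve_left hr).symm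
      have hYle : Y ≤ P.iotaX.range := P.cent_le_conj (isConj_of_cl hcl) P.cent_outside
      obtain ⟨a, ha⟩ := isConj_iff.1 (isConj_of_cl hcl)
      rw [eq_bot_iff]
      intro k hk
      obtain ⟨n, hn⟩ := hYle k.2
      have hnm : n * m = m * n := P.iotaX_injective (by
        rw [map_mul, map_mul, hn]; exact mem_centralizer_singleton_iff.1 k.2)
      have hn9 : n ^ 9 = 1 := by
        have h := cent_twelve (a⁻¹ * n * a) (by
          rw [← ha] at hnm
          calc a⁻¹ * n * a * inQ ⟨12⟩ = a⁻¹ * (n * (a * inQ ⟨12⟩ * a⁻¹)) * a := by group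
            _ = _ := by rw [hnm]; group)
        rw [show a⁻¹ * n * a = a⁻¹ * n * a⁻¹⁻¹ by rw [inv_inv], conj_pow] at h
        exact mul_left_cancel (mul_right_cancel (h.trans (by group : (1 : Mo) = a⁻¹ * 1 * a⁻¹⁻¹)))
      have hk9 : orderOf (Y.subtype k) ∣ 9 := orderOf_dvd_of_pow_eq_one (by
        rw [Subgroup.coe_subtype, ← hn, ← map_pow, hn9, map_one])
      have := Nat.eq_one_of_dvd_coprimes
        (((Nat.Prime.coprime_iff_not_dvd Nat.prime_three).2 hKcard).pow_left 2) hk9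
        (Subgroup.orderOf_dvd_natCard K ⟨k, hk, rfl⟩)
      rw [Subgroup.mem_bot]
      exact Subtype.ext (orderOf_eq_one_iff.1 this)

/-- The centraliser of `1 + E₀₂ + E₁₃` lies in the image. -/
theorem centralizer_x4 : centralizer ({P.f x4} : Set G) ≤ P.f.range := by
  suffices h : P.iotaX.range = ⊤ from fun g hg =>
    (P.mk_mem_iff ⟨g, hg⟩).1 (h ▸ mem_top _)
  by_cases hva : cg P.iotaX va ≤ P.iotaX.range
  · refine P.cfgX.range_eq_top fun v hv => ?_
    rcases A9Three.trans_class v hv with h | h | h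
    · exact P.cent_le_conj (isConj_of_cl h.symm) hva
    · exact P.cg_split (Or.inl h)
    · exact P.cg_split (Or.inr h)
  · exfalso
    obtain ⟨ψ, f, N⟩ := P.cfgX.exists_nin hva
    set k : A9Three.A9 :=
      ⟨A9Three.k12, Equiv.Perm.mem_alternatingGroup.2 A9Three.k12_facts.1⟩
    have e : k * A9Three.monA (inQ ⟨12⟩) * k⁻¹ = A9Three.monA (inJ vc) :=
      Subtype.ext A9Three.k12_facts.2
    have e' := congrArg f e
    rw [map_mul, map_mul, map_inv, N.mon, N.mon] at e'
    obtain ⟨n, hn⟩ := P.mem_of_pure_lift pure_vc (g := (f k)⁻¹) (by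
      rw [← e']; exact ⟨inQ ⟨12⟩, by group⟩)
    rw [← inv_inv (f k), ← hn, inv_inv, ← map_inv, ← map_mul, ← map_mul] at e'
    have h := congrArg SemidirectProduct.right (P.iotaX_injective e')
    revert h
    simp only [SemidirectProduct.mul_right, SemidirectProduct.inv_right,
      SemidirectProduct.right_inl, SemidirectProduct.right_inr]
    have key : ∀ q : Rot, q⁻¹ * ⟨12⟩ * q ≠ 1 := by decide +kernel
    exact key _

end Hyp

end Cfsg.Agent.L43Three.CaseB
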