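import Cfsg.Agent.Lib.L43Three.CaseB.Elem
import Cfsg.Agent.Lib.ThreeTI.Mono.Model

/-!
S3373, case B: the monomial group `3³ : S₄` inside the centraliser of `1 + E₀₂ + E₁₃`.
-/

set_option autoImplicit false
set_option maxRecDepth 40000
set_option linter.constructorNameAsVariable false

namespace Cfsg.Agent.L43Three.CaseB

open Cfsg.Agent.ThreeTI.Mono
open Cfsg.Agent.ThreeTI.Cube (V)

/-- The code of `1 + E₀₂ + E₁₃`. -/
def xM : M4 :=
  ⟨⟨.o, .z, .o, .z⟩, ⟨.z, .o, .z, .o⟩, ⟨.z, .z, .o, .z⟩, ⟨.z, .z, .z, .o⟩⟩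

/-- The element `1 + E₀₂ + E₁₃`. -/
def x4 : S4 := mk4 xM (by decide +kernel)

theorem code_x4 : code x4 = xM := code_mk4 _ _

/-- The commutant of `1 + E₀₂ + E₁₃`. -/
def formX (a b c d p q r s : F3) : M4 :=
  ⟨⟨a, b, p, q⟩, ⟨c, d, r, s⟩, ⟨.z, .z, a, b⟩, ⟨.z, .z, c, d⟩⟩

/-- A scalar plus the traceless matrix of a vector in the upper right block. -/
def uF (c x y w : F3) : M4 :=
  let t := y.add w.neg
  let u := (x.neg.add y).add w
  let l := (x.add y).add w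
  ⟨⟨.o, .z, c.add t, u⟩, ⟨.z, .o, l, c.add t.neg⟩, ⟨.z, .z, .o, .z⟩, ⟨.z, .z, .z, .o⟩⟩

/-- A translation times a power of `1 + E₀₂ + E₁₃`. -/
def uM (c : F3) (v : V) : M4 :=
  uF c (F3.ofK v.toAdd.1) (F3.ofK v.toAdd.2.1) (F3.ofK v.toAdd.2.2)

/-- The two by two matrices of the rotations, up to sign. -/
def qA : Fin 24 → F3 × F3 × F3 × F3 :=
  ![
    (.o, .z, .z, .o), (.o, .d, .d, .d), (.o, .o, .o, .d), (.z, .o, .d, .z),
    (.o, .z, .z, .d), (.z, .o, .o, .z), (.o, .o, .d, .o), (.o, .d, .o, .o),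
    (.o, .d, .z, .d), (.o, .o, .o, .z), (.z, .o, .o, .d), (.o, .z, .d, .d),
    (.z, .o, .d, .d), (.o, .z, .d, .o), (.o, .d, .o, .z), (.o, .o, .z, .o),
    (.o, .z, .o, .o), (.z, .o, .d, .o), (.o, .o, .d, .z), (.o, .d, .z, .o),
    (.o, .o, .z, .d), (.o, .d, .d, .z), (.o, .z, .o, .d), (.z, .o, .o, .o)]

/-- The rotation of a two by two matrix. -/
def qOf : F3 → F3 → F3 → F3 → Fin 24
  | .o, .z, .z, .o => 0
  | .d, .z, .z, .d => 0
  | .o, .d, .d, .d => 1
  | .d, .o, .o, .o => 1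
  | .o, .o, .o, .d => 2
  | .d, .d, .d, .o => 2
  | .z, .o, .d, .z => 3
  | .z, .d, .o, .z => 3
  | .o, .z, .z, .d => 4
  | .d, .z, .z, .o => 4
  | .z, .o, .o, .z => 5
  | .z, .d, .d, .z => 5
  | .o, .o, .d, .o => 6
  | .d, .d, .o, .d => 6
  | .o, .d, .o, .o => 7
  | .d, .o, .d, .d => 7
  | .o, .d, .z, .d => 8
  | .d, .o, .z, .o => 8
  | .o, .o, .o, .z => 9
  | .d, .d, .d, .z => 9
  | .z, .o, .o, .d => 10
  | .z, .d, .d, .o => 10
  | .o, .z, .d, .d => 11
  | .d, .z, .o, .o => 11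
  | .z, .o, .d, .d => 12
  | .z, .d, .o, .o => 12
  | .o, .z, .d, .o => 13
  | .d, .z, .o, .d => 13
  | .o, .d, .o, .z => 14
  | .d, .o, .d, .z => 14
  | .o, .o, .z, .o => 15
  | .d, .d, .z, .d => 15
  | .o, .z, .o, .o => 16
  | .d, .z, .d, .d => 16
  | .z, .o, .d, .o => 17
  | .z, .d, .o, .d => 17
  | .o, .o, .d, .z => 18
  | .d, .d, .o, .z => 18
  | .o, .d, .z, .o => 19
  | .d, .o, .z, .d => 19
  | .o, .o, .z, .d => 20
  | .d, .d, .z, .o => 20
  | .o, .d, .d, .z => 21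
  | .d, .o, .o, .z => 21
  | .o, .z, .o, .d => 22
  | .d, .z, .d, .o => 22
  | .z, .o, .o, .o => 23
  | .z, .d, .d, .d => 23
  | _, _, _, _ => 0

/-- A block diagonal element. -/
def dF : F3 × F3 × F3 × F3 → M4
  | (a, b, c, d) => ⟨⟨a, b, .z, .z⟩, ⟨c, d, .z, .z⟩, ⟨.z, .z, a, b⟩, ⟨.z, .z, c, d⟩⟩

/-- The element of a rotation. -/
def dM (q : Rot) : M4 := dF (qA q.i)

/-- The element of the model times a power of `1 + E₀₂ + E₁₃`. -/
def elX (c : F3) (m : Mo) : M4 := M4.mul (uM c m.left) (dM m.right)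

theorem det_uM : ∀ (c : F3) (v : V), (uM c v).det = .o := by decide +kernel

theorem det_dM : ∀ q : Rot, (dM q).det = .o := by decide +kernel

theorem det_elX : ∀ (c : F3) (m : Mo), (elX c m).det = .o := by decide +kernel

theorem uM_mul : ∀ (c c' : F3) (v w : V),
    M4.mul (uM c v) (uM c' w) = uM (c.add c') (v * w) := by decide +kernel

theorem dM_mul : ∀ q r : Rot, M4.mul (dM q) (dM r) = dM (q * r) ∨
    M4.mul (dM q) (dM r) = M4.neg (dM (q * r)) := by decide +kernel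

theorem dM_uM : ∀ (q : Rot) (v : V),
    M4.mul (dM q) (uM .z v) = M4.mul (uM .z (actFn q v)) (dM q) := by decide +kernel

/-- The coordinates of a commutant. -/
def decX (a b c d p q r s : F3) : F3 × Mo :=
  let δ := M4.det2 a b c d
  let ia := δ.mul d
  let ib := δ.mul b.neg
  let ic := δ.mul c.neg
  let id' := δ.mul a
  let m00 := (p.mul ia).add (q.mul ic)
  let m01 := (p.mul ib).add (q.mul id')
  let m10 := (r.mul ia).add (s.mul ic)
  let m11 := (r.mul ib).add (s.mul id')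
  let c0 := (m00.add m11).neg
  let t := m00.add c0.neg
  let sm := (m01.add m10).neg
  let v0 := m10.add sm.neg
  let v1 := (sm.add t).neg
  let v2 := (sm.add t.neg).neg
  (c0, ⟨Multiplicative.ofAdd (v0.toK, v1.toK, v2.toK), ⟨qOf a b c d⟩⟩)

theorem decX_spec : ∀ a b c d p q r s : F3, (formX a b c d p q r s).det = .o →
    formX a b c d p q r s = elX (decX a b c d p q r s).1 (decX a b c d p q r s).2 ∨
    formX a b c d p q r s = M4.neg (elX (decX a b c d p q r s).1 (decX a b c d p q r s).2) := by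
  decide +kernel

theorem uM_one : uM .z 1 = M4.one ∧ uM .o 1 = xM ∧ uM .d 1 = M4.mul xM xM := by decide +kernel

theorem elX_one : ∀ (k : F3) (m : Mo),
    (elX .z m = uM k 1 ∨ elX .z m = M4.neg (uM k 1)) → m = 1 := by decide +kernel

theorem elX_split : ∀ (c : F3) (m : Mo), elX c m = M4.mul (uM c 1) (elX .z m) := by decide +kernel

theorem elX_comm : ∀ (c : F3) (m : Mo),
    M4.mul (elX c m) xM = M4.mul xM (elX c m) := by decide +kernel

end Cfsg.Agent.L43Three.CaseB
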