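import Cfsg.Agent.Lib.L43Three.Model
import Mathlib.Tactic.FinCases
import Mathlib.Tactic.Ring
import Mathlib.Tactic.DeriveFintype

/-!
S3373, case B: a fast representation of `SL(4,3)` for kernel computations.
-/

set_option autoImplicit false

namespace Cfsg.Agent.L43Three.CaseB

open Matrix

/-- The special linear group in dimension four over the field of three elements. -/
abbrev S4 : Type := SpecialLinearGroup (Fin 4) K

/-- The parity of the dimension, for the negation of `S4`. -/
instance evenFour : Fact (Even (Fintype.card (Fin 4))) := ⟨by decide⟩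

/-- The residues modulo three, for fast evaluation. -/
inductive F3 : Type
  | z | o | d
deriving DecidableEq

namespace F3

instance : Fintype F3 where
  elems := {.z, .o, .d}
  complete x := by cases x <;> decide

/-- Addition. -/
def add : F3 → F3 → F3
  | z, y => y
  | o, z => o
  | o, o => d
  | o, d => z
  | d, z => d
  | d, o => z
  | d, d => o

/-- Negation. -/
def neg : F3 → F3
  | z => z
  | o => d
  | d => o

/-- Multiplication. -/
def mul : F3 → F3 → F3
  | z, _ => z
  | o, y => y
  | d, y => neg y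

/-- The residue. -/
def toK : F3 → K
  | z => 0
  | o => 1
  | d => 2

/-- The code of a residue. -/
def ofK (a : K) : F3 := if a = 0 then z else if a = 1 then o else d

theorem toK_ofK (a : K) : (ofK a).toK = a := by revert a; decide

theorem ofK_toK (a : F3) : ofK a.toK = a := by revert a; decide

theorem toK_add (a b : F3) : (add a b).toK = a.toK + b.toK := by revert a b; decide

theorem toK_mul (a b : F3) : (mul a b).toK = a.toK * b.toK := by revert a b; decide

theorem toK_neg (a : F3) : (neg a).toK = -a.toK := by revert a; decide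

theorem toK_neg_two (a : F3) : (neg a).toK = 2 * a.toK := by revert a; decide

theorem toK_inj {a b : F3} (h : a.toK = b.toK) : a = b := by
  rw [← ofK_toK a, h, ofK_toK]

end F3

/-- Rows. -/
structure R4 : Type where
  a : F3
  b : F3
  c : F3
  d : F3
deriving DecidableEq, Fintype

namespace R4

/-- Sum of rows. -/
def add (u w : R4) : R4 := ⟨u.a.add w.a, u.b.add w.b, u.c.add w.c, u.d.add w.d⟩

/-- Multiple of a row. -/
def smul : F3 → R4 → R4
  | .z, _ => ⟨.z, .z, .z, .z⟩
  | .o, w => w
  | .d, w => ⟨w.a.neg, w.b.neg, w.c.neg, w.d.neg⟩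

/-- The entries of a row. -/
def toFun (u : R4) : Fin 4 → K := ![u.a.toK, u.b.toK, u.c.toK, u.d.toK]

/-- The row with given entries. -/
def ofFun (v : Fin 4 → K) : R4 := ⟨F3.ofK (v 0), F3.ofK (v 1), F3.ofK (v 2), F3.ofK (v 3)⟩

theorem toFun_ofFun (v : Fin 4 → K) : (ofFun v).toFun = v := by
  funext i
  fin_cases i <;> simp [toFun, ofFun, F3.toK_ofK]

theorem toFun_add (u w : R4) : (u.add w).toFun = u.toFun + w.toFun := by
  funext i
  fin_cases i <;> simp [toFun, add, F3.toK_add]

theorem toFun_smul (k : F3) (u : R4) : (smul k u).toFun = k.toK • u.toFun := by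
  funext i
  cases k <;> fin_cases i <;> simp [toFun, smul]
  all_goals first | exact F3.toK_neg_two _ | simp [F3.toK]

theorem toFun_inj {u w : R4} (h : u.toFun = w.toFun) : u = w := by
  obtain ⟨a, b, c, d⟩ := u
  obtain ⟨a', b', c', d'⟩ := w
  have h0 := F3.toK_inj (congrFun h 0)
  have h1 := F3.toK_inj (congrFun h 1)
  have h2 := F3.toK_inj (congrFun h 2)
  have h3 := F3.toK_inj (congrFun h 3)
  simp only at h0 h1 h2 h3
  subst h0 h1 h2 h3
  rfl

end R4

/-- Square matrices of size four, by rows. -/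
structure M4 : Type where
  r0 : R4
  r1 : R4
  r2 : R4
  r3 : R4
deriving DecidableEq

namespace M4

/-- A row times a matrix. -/
def rmul (u : R4) (m : M4) : R4 :=
  ((R4.smul u.a m.r0).add (R4.smul u.b m.r1)).add ((R4.smul u.c m.r2).add (R4.smul u.d m.r3))

/-- The product. -/
def mul (x y : M4) : M4 := ⟨rmul x.r0 y, rmul x.r1 y, rmul x.r2 y, rmul x.r3 y⟩

/-- The negative. -/
def neg (x : M4) : M4 :=
  ⟨R4.smul .d x.r0, R4.smul .d x.r1, R4.smul .d x.r2, R4.smul .d x.r3⟩

/-- The identity matrix. -/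
def one : M4 :=
  ⟨⟨.o, .z, .z, .z⟩, ⟨.z, .o, .z, .z⟩, ⟨.z, .z, .o, .z⟩, ⟨.z, .z, .z, .o⟩⟩

/-- The power. -/
def pow (x : M4) : ℕ → M4
  | 0 => one
  | n + 1 => mul (pow x n) x

/-- The matrix. -/
def toMat (m : M4) : Matrix (Fin 4) (Fin 4) K :=
  Matrix.of ![m.r0.toFun, m.r1.toFun, m.r2.toFun, m.r3.toFun]

/-- The code of a matrix. -/
def ofMat (A : Matrix (Fin 4) (Fin 4) K) : M4 :=
  ⟨R4.ofFun (A 0), R4.ofFun (A 1), R4.ofFun (A 2), R4.ofFun (A 3)⟩

theorem toMat_ofMat (A : Matrix (Fin 4) (Fin 4) K) : (ofMat A).toMat = A := by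
  ext i j
  fin_cases i <;> simp [toMat, ofMat, R4.toFun_ofFun]

theorem toMat_inj {x y : M4} (h : x.toMat = y.toMat) : x = y := by
  obtain ⟨a, b, c, d⟩ := x
  obtain ⟨a', b', c', d'⟩ := y
  have h0 : a = a' := R4.toFun_inj (congrFun h 0)
  have h1 : b = b' := R4.toFun_inj (congrFun h 1)
  have h2 : c = c' := R4.toFun_inj (congrFun h 2)
  have h3 : d = d' := R4.toFun_inj (congrFun h 3)
  subst h0 h1 h2 h3
  rfl

theorem ofMat_toMat (m : M4) : ofMat m.toMat = m := toMat_inj (toMat_ofMat _)

theorem toFun_rmul (u : R4) (m : M4) : (rmul u m).toFun = u.toFun ᵥ* m.toMat := by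
  funext j
  rw [rmul, R4.toFun_add, R4.toFun_add, R4.toFun_add, R4.toFun_smul, R4.toFun_smul, R4.toFun_smul,
    R4.toFun_smul]
  simp [vecMul, dotProduct, Fin.sum_univ_four, toMat, R4.toFun, add_assoc]
  fin_cases j <;> simp [add_assoc]

theorem toMat_mul (x y : M4) : (mul x y).toMat = x.toMat * y.toMat := by
  ext i j
  fin_cases i <;> exact congrFun (toFun_rmul _ y) j

theorem toMat_one : one.toMat = 1 := by decide

theorem toMat_neg (x : M4) : (neg x).toMat = -x.toMat := by
  ext i j
  fin_cases i <;> simp [neg, toMat, R4.toFun_smul, F3.toK] <;> fin_cases j <;>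
    simp [R4.toFun, show (2 : K) = -1 by decide]

/-- The two by two minor of two rows in two columns. -/
def det2 (p q r s : F3) : F3 := (p.mul s).add (q.mul r).neg

/-- The determinant, by expansion along the first two rows. -/
def det : M4 → F3
  | ⟨⟨a, b, c, d⟩, ⟨e, f, g, h⟩, ⟨i, j, k, l⟩, ⟨m, n, o, p⟩⟩ =>
    ((((det2 a b e f).mul (det2 k l o p)).add ((det2 a c e g).mul (det2 j l n p)).neg).add
      (((det2 a d e h).mul (det2 j k n o)).add ((det2 b c f g).mul (det2 i l m p)))).add
      ((((det2 b d f h).mul (det2 i k m o)).neg).add ((det2 c d g h).mul (det2 i j m n)))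

theorem det_toMat (x : M4) : x.toMat.det = x.det.toK := by
  obtain ⟨⟨a, b, c, d⟩, ⟨e, f, g, h⟩, ⟨i, j, k, l⟩, ⟨m, n, o, p⟩⟩ := x
  simp only [det, det2, F3.toK_add, F3.toK_mul, F3.toK_neg]
  rw [Matrix.det_succ_row_zero]
  simp [Fin.sum_univ_succ, Matrix.det_fin_three, toMat, R4.toFun, Fin.succAbove]
  ring

end M4

/-- The code of an element. -/
def code (x : S4) : M4 := M4.ofMat x.1

/-- The element with given code. -/
def mk4 (m : M4) (h : m.det = .o) : S4 := ⟨m.toMat, by rw [M4.det_toMat, h]; rfl⟩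

theorem code_injective : Function.Injective code := fun x y h =>
  Subtype.ext (by rw [← M4.toMat_ofMat x.1, ← M4.toMat_ofMat y.1]; exact congrArg M4.toMat h)

theorem code_mk4 (m : M4) (h : m.det = .o) : code (mk4 m h) = m := M4.ofMat_toMat m

theorem code_mul (x y : S4) : code (x * y) = M4.mul (code x) (code y) :=
  M4.toMat_inj (by
    rw [M4.toMat_mul, code, code, code, M4.toMat_ofMat, M4.toMat_ofMat, M4.toMat_ofMat]
    rfl)

theorem code_one : code 1 = M4.one :=
  M4.toMat_inj (by rw [M4.toMat_one, code, M4.toMat_ofMat]; rfl)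

theorem code_neg (x : S4) : code (-x) = M4.neg (code x) :=
  M4.toMat_inj (by rw [M4.toMat_neg, code, code, M4.toMat_ofMat, M4.toMat_ofMat]; rfl)

theorem code_pow (x : S4) : ∀ n : ℕ, code (x ^ n) = M4.pow (code x) n
  | 0 => by rw [pow_zero, code_one]; rfl
  | n + 1 => by rw [pow_succ, code_mul, code_pow x n]; rfl

theorem det_code (x : S4) : (code x).det = .o := by
  refine F3.toK_inj ?_
  rw [← M4.det_toMat, code, M4.toMat_ofMat]
  exact x.2

theorem mk4_code (x : S4) : mk4 (code x) (det_code x) = x := code_injective (code_mk4 _ _)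

theorem eq_mk4 {x : S4} {m : M4} {h : m.det = .o} (e : code x = m) : x = mk4 m h :=
  code_injective (by rw [e, code_mk4])

theorem mk4_mul_mk4 {a b c : M4} {ha : a.det = .o} {hb : b.det = .o} {hc : c.det = .o}
    (e : M4.mul a b = c) : mk4 a ha * mk4 b hb = mk4 c hc :=
  eq_mk4 (by rw [code_mul, code_mk4, code_mk4, e])

/-- Commuting elements, read on codes. -/
theorem commute_iff_code (x y : S4) :
    x * y = y * x ↔ M4.mul (code x) (code y) = M4.mul (code y) (code x) := by
  rw [← code_mul, ← code_mul]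
  exact code_injective.eq_iff.symm

end Cfsg.Agent.L43Three.CaseB
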