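import Cfsg.Agent.Lib.L43Three.CaseB.Strong
import Mathlib.LinearAlgebra.Matrix.Trace

/-!
S3373, case B: no element of square one or minus one normalises a subgroup of order thirteen.
-/

set_option autoImplicit false
set_option maxRecDepth 40000
set_option maxHeartbeats 400000
set_option linter.constructorNameAsVariable false

namespace Cfsg.Agent.L43Three.CaseB

open Subgroup

/-- The code of the companion of `X³ - X - 1`, extended by one. -/
def kM : M4 :=
  ⟨⟨.z, .z, .o, .z⟩, ⟨.o, .z, .o, .z⟩, ⟨.z, .o, .z, .z⟩, ⟨.z, .z, .z, .o⟩⟩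

/-- An element of order thirteen. -/
def k13 : S4 := mk4 kM (by decide +kernel)

/-- The commutant of `k13`. -/
def formK (a t u l : F3) : M4 :=
  ⟨⟨a, t, u, .z⟩, ⟨u, a.add t, t.add u, .z⟩, ⟨t, u, a.add t, .z⟩, ⟨.z, .z, .z, l⟩⟩

theorem commute_kM {m : M4} (h : M4.mul m kM = M4.mul kM m) :
    m = formK m.r0.a m.r0.b m.r0.c m.r3.d := by
  obtain ⟨⟨a, b, c, d⟩, ⟨p, q, r, s⟩, ⟨t, u, v, w⟩, ⟨i, j, k, l⟩⟩ := m
  simp only [M4.mul, M4.rmul, kM, R4.smul_eq, R4.add, F3.mul_z, F3.mul_o, F3.z_mul, F3.o_mul,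
    F3.add_z, F3.z_add, M4.mk.injEq, R4.mk.injEq] at h
  obtain ⟨⟨rfl, rfl, rfl, rfl⟩, ⟨rfl, rfl, -, h1⟩, ⟨rfl, -, -, rfl⟩, rfl, rfl, h2, -⟩ := h
  have key : ∀ x : F3, (x = x.add x → x = .z) ∧ (x.add x = x → x = .z) := by decide
  obtain rfl := (key _).1 h1
  obtain rfl := (key _).2 h2
  rfl

theorem formK_proper : ∀ a t u l : F3, (formK a t u l).det = .o →
    (M4.mul (formK a t u l) (formK a t u l) = M4.one ∨
      M4.mul (formK a t u l) (formK a t u l) = M4.neg M4.one) → ¬ Proper (formK a t u l) := by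
  decide +kernel

theorem trace_kM : kM.toMat.trace ≠ (M4.pow kM 12).toMat.trace := by decide +kernel

theorem k13_pow : k13 ^ 13 = 1 :=
  code_injective (by rw [code_pow, k13, code_mk4, code_one]; decide +kernel)

theorem k13_ne_one : k13 ≠ 1 := fun e => by
  have h := congrArg code e
  rw [k13, code_mk4, code_one] at h
  exact absurd h (by decide +kernel)

/-- An element of square one or minus one, neither, does not normalise `⟨k13⟩`. -/
theorem no_normalise {y : S4} (h2 : y * y = 1 ∨ y * y = -1) (hp : y ≠ 1 ∧ y ≠ -1)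
    (h : y * k13 * y⁻¹ = k13 ∨ y * k13 * y⁻¹ = k13 ^ 12) : False := by
  rcases h with h | h
  · rw [mul_inv_eq_iff_eq_mul, commute_iff_code, k13, code_mk4] at h
    have e := commute_kM h
    refine formK_proper _ _ _ _ (by rw [← e]; exact det_code y) ?_ ?_
    · rw [← e, ← code_mul]
      rcases h2 with h2 | h2
      · exact Or.inl (by rw [h2, code_one])
      · exact Or.inr (by rw [h2, code_neg, code_one])
    · rw [← e]
      exact ⟨fun c => hp.1 (code_injective (c.trans code_one.symm)),
        fun c => hp.2 (code_injective (c.trans (by rw [code_neg, code_one])))⟩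
  · refine trace_kM ?_
    have h3 := congrArg (fun z : S4 => (code z).toMat.trace) h
    simp only [code_mul, code_pow, k13, code_mk4, M4.toMat_mul] at h3
    rw [Matrix.trace_mul_cycle, ← M4.toMat_mul, ← code_mul, inv_mul_cancel, code_one, M4.toMat_one,
      one_mul] at h3
    exact h3

end Cfsg.Agent.L43Three.CaseB
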