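import Cfsg.Agent.Lib.L43Three.CaseB.InvThree
import Cfsg.Agent.Lib.L43Three.CaseB.Thirteen
import Mathlib.Combinatorics.Pigeonhole

/-!
S3373, case B: the image is the whole group once it contains the centraliser of one involution.
-/

set_option autoImplicit false
set_option maxRecDepth 40000
set_option maxHeartbeats 800000
set_option linter.constructorNameAsVariable false
set_option linter.style.haveILetI false
set_option linter.unusedSectionVars false

namespace Cfsg.Agent.L43Three.CaseB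

open Subgroup

theorem t4_facts : t4 * t4 = 1 ∧ t4 ≠ 1 ∧ t4 ≠ -1 :=
  ⟨code_injective (by rw [code_mul, code_t4, code_one]; decide +kernel),
    fun e => absurd (congrArg code e) (by rw [code_t4, code_one]; decide +kernel),
    fun e => absurd (congrArg code e) (by rw [code_t4, code_neg, code_one]; decide +kernel)⟩

theorem commute_tM {m : M4}
    (h : M4.mul m tM = M4.mul tM m ∨ M4.mul m tM = M4.neg (M4.mul tM m)) :
    ∃ s A B, m = syF s A B := by
  obtain ⟨⟨a, b, c, d⟩, ⟨p, q, r, s⟩, ⟨t, u, v, w⟩, ⟨i, j, k, l⟩⟩ := m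
  have e1 : ∀ x : F3, x.mul .d = x.neg := by decide
  have e2 : ∀ x : F3, F3.mul .d x = x.neg := by decide
  have k1 : ∀ x : F3, (x = x.neg → x = .z) ∧ (x.neg = x → x = .z) := by decide
  have e3 : ∀ x : F3, x.neg.neg = x := by decide
  simp only [M4.mul, M4.rmul, M4.neg, tM, R4.smul_eq, R4.add, F3.mul_z, F3.mul_o, F3.z_mul,
    F3.o_mul, F3.add_z, F3.z_add, e1, e2, e3, M4.mk.injEq, R4.mk.injEq] at h
  rcases h with h | h
  · obtain ⟨⟨-, -, h1, h2⟩, ⟨-, -, h3, h4⟩, ⟨h5, h6, -, -⟩, h7, h8, -, -⟩ := h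
    obtain rfl := (k1 _).1 h1
    obtain rfl := (k1 _).1 h2
    obtain rfl := (k1 _).1 h3
    obtain rfl := (k1 _).1 h4
    obtain rfl := (k1 _).2 h5
    obtain rfl := (k1 _).2 h6
    obtain rfl := (k1 _).2 h7
    obtain rfl := (k1 _).2 h8
    exact ⟨false, (a, b, p, q), (v, w, k, l), rfl⟩
  · obtain ⟨⟨h1, h2, -, -⟩, ⟨h3, h4, -, -⟩, ⟨-, -, h5, h6⟩, -, -, h7, h8⟩ := h
    obtain rfl := (k1 _).2 h1
    obtain rfl := (k1 _).2 h2
    obtain rfl := (k1 _).2 h3
    obtain rfl := (k1 _).2 h4
    obtain rfl := (k1 _).1 h5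
    obtain rfl := (k1 _).1 h6
    obtain rfl := (k1 _).1 h7
    obtain rfl := (k1 _).1 h8
    exact ⟨true, (c, d, r, s), (t, u, i, j), rfl⟩

theorem card_formT : Fintype.card {p : Bool × (F3 × F3 × F3 × F3) × (F3 × F3 × F3 × F3) //
    (syF p.1 p.2.1 p.2.2).det = .o} = 2304 := by decide +kernel

theorem sylow13 : ∀ n : Fin 641, n.val ∣ 640 → n.val % 13 = 1 → n.val = 1 ∨ n.val = 40 := by
  decide +kernel

theorem sq_thirteen : ∀ i : Fin 13, i.val * i.val % 13 = 1 → i.val = 1 ∨ i.val = 12 := by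
  decide +kernel

namespace Hyp

variable {G : Type*} [Group G] [Finite G] (P : Hyp G)
include P

theorem card_ker : Nat.card P.f.ker = 2 := by
  have h : (P.f.ker : Set S4) = {1, -1} := by
    ext x
    simp [P.ker]
  have h1 : (1 : S4) ≠ -1 := fun e =>
    absurd (congrArg code e) (by rw [code_neg, code_one]; decide +kernel)
  rw [← SetLike.coe_sort_coe, h, Nat.card_coe_set_eq, Set.ncard_pair h1]

theorem card_range : Nat.card P.f.range = 6065280 := by
  have h := Subgroup.card_eq_card_quotient_mul_card_subgroup P.f.ker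
  rw [card_S4, P.card_ker, Nat.card_congr (QuotientGroup.quotientKerEquivRange P.f).toEquiv] at h
  omega

theorem card_cent_le (ct : centralizer ({P.f t4} : Set G) ≤ P.f.range) :
    Nat.card (centralizer ({P.f t4} : Set G)) ≤ 1152 := by
  set C := centralizer ({P.f t4} : Set G) with hC
  set K₂ := C.comap P.f with hK
  set g : K₂ →* G := P.f.comp K₂.subtype with hg
  have hrange : g.range = C := by
    rw [hg, MonoidHom.range_comp, Subgroup.range_subtype, hK,
      Subgroup.map_comap_eq_self ct]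
  have hker : Nat.card g.ker = 2 := by
    have hle : P.f.ker ≤ K₂ := fun x hx => by
      show P.f x ∈ C
      rw [MonoidHom.mem_ker.1 hx]
      exact one_mem _
    rw [show g.ker = P.f.ker.subgroupOf K₂ from rfl,
      Nat.card_congr (subgroupOfEquivOfLe hle).toEquiv, P.card_ker]
  have h := Subgroup.card_eq_card_quotient_mul_card_subgroup g.ker
  rw [Nat.card_congr (QuotientGroup.quotientKerEquivRange g).toEquiv, hrange, hker] at h
  have hle : Nat.card K₂ ≤ 2304 := by
    have hform : ∀ x : K₂, ∃ p : {p : Bool × (F3 × F3 × F3 × F3) × (F3 × F3 × F3 × F3) //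
        (syF p.1 p.2.1 p.2.2).det = .o}, code (x : S4) = syF p.1.1 p.1.2.1 p.1.2.2 := by
      intro x
      have hx := mem_centralizer_singleton_iff.1 x.2
      rw [← map_mul, ← map_mul, P.eq_iff] at hx
      obtain ⟨s, A, B, e⟩ := commute_tM (m := code (x : S4)) (by
        rcases hx with e | e
        · exact Or.inl (by rw [← code_t4, ← code_mul, ← code_mul, e])
        · exact Or.inr (by rw [← code_t4, ← code_mul, ← code_mul, e, code_neg]))
      exact ⟨⟨(s, A, B), by rw [← e]; exact det_code _⟩, e⟩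
    choose p hp using hform
    rw [← card_formT, ← Nat.card_eq_fintype_card]
    exact Nat.card_le_card_of_injective p fun x y e =>
      Subtype.ext (code_injective (by rw [hp, hp, e]))
  omega

theorem sq_of_invol {y : S4} (h : P.f y * P.f y = 1) : y * y = 1 ∨ y * y = -1 :=
  (P.ker _).1 (by rw [map_mul, h])

theorem ne_of_invol {y : S4} (h : P.f y ≠ 1) : y ≠ 1 ∧ y ≠ -1 :=
  ⟨fun e => h ((P.ker y).2 (Or.inl e)), fun e => h ((P.ker y).2 (Or.inr e))⟩

/-- An element conjugating the central involution into the image lies in the image. -/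
theorem mem_of_invol (ct : centralizer ({P.f t4} : Set G) ≤ P.f.range) {g : G}
    (h : g * P.f t4 * g⁻¹ ∈ P.f.range) : g ∈ P.f.range := by
  obtain ⟨x, hx⟩ := h
  have ht : P.f t4 * P.f t4 = 1 := by rw [← map_mul, t4_facts.1, map_one]
  have hx2 : P.f x * P.f x = 1 := by
    rw [hx]
    calc g * P.f t4 * g⁻¹ * (g * P.f t4 * g⁻¹) = g * (P.f t4 * P.f t4) * g⁻¹ := by group
      _ = 1 := by rw [ht]; group
  have hx1 : P.f x ≠ 1 := by
    rw [hx, Ne, conj_eq_one_iff, P.ker]
    exact fun h => h.elim t4_facts.2.1 t4_facts.2.2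
  obtain ⟨s, hs3, hs1, hsx⟩ := exists_three_commute (P.sq_of_invol hx2) (P.ne_of_invol hx1)
  have h1 : g⁻¹ * P.f s * g⁻¹⁻¹ ∈ P.f.range := by
    refine ct (mem_centralizer_singleton_iff.2 ?_)
    have e : P.f s * P.f x = P.f x * P.f s := by rw [← map_mul, hsx, map_mul]
    calc g⁻¹ * P.f s * g⁻¹⁻¹ * P.f t4 = g⁻¹ * (P.f s * (g * P.f t4 * g⁻¹)) * g := by group
      _ = P.f t4 * (g⁻¹ * P.f s * g⁻¹⁻¹) := by rw [← hx, e, hx]; group
  have := P.mem_of_three hs3 hs1 h1
  simpa using inv_mem this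

/-- No involution of the image normalises a subgroup of order thirteen. -/
theorem no_thirteen {c u : G} (hc : c ∈ P.f.range) (hco : orderOf c = 13) (hu : u ∈ P.f.range)
    (hu2 : orderOf u = 2) (hn : u * c * u⁻¹ ∈ zpowers c) : False := by
  haveI : Fact (Nat.Prime 13) := ⟨by norm_num⟩
  obtain ⟨x₀, hx₀⟩ := hc
  obtain ⟨y, rfl⟩ := hu
  have hm13 : ((-1 : S4)) ^ 13 ≠ 1 := fun e =>
    absurd (congrArg code e) (by rw [code_pow, code_neg, code_one]; decide +kernel)
  have hnm : ∀ z : S4, (-z) ^ 13 = (-1) ^ 13 * z ^ 13 := fun z => by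
    rw [← neg_one_mul z, (Commute.neg_one_left z).mul_pow]
  -- a lift of order thirteen
  obtain ⟨x, hx, hx13⟩ : ∃ x, P.f x = c ∧ x ^ 13 = 1 := by
    have h : P.f (x₀ ^ 13) = 1 := by rw [map_pow, hx₀, ← hco, pow_orderOf_eq_one]
    rcases (P.ker _).1 h with e | e
    · exact ⟨x₀, hx₀, e⟩
    · refine ⟨-x₀, by rw [P.f_neg, hx₀], ?_⟩
      rw [hnm, e]
      exact code_injective (by
        rw [code_mul, code_pow, code_neg, code_one]; decide +kernel)
  have hx1 : x ≠ 1 := fun e => by
    rw [← hx, e, map_one, orderOf_one] at hco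
    omega
  have hxo : orderOf x = 13 := orderOf_eq_prime hx13 hx1
  have hko : orderOf k13 = 13 := orderOf_eq_prime k13_pow k13_ne_one
  -- move the subgroup to the standard one
  have hS : ∀ S : Sylow 13 S4, Nat.card (S : Subgroup S4) = 13 := fun S => by
    rw [Sylow.card_eq_multiplicity, card_S4,
      show (12130560 : ℕ) = 13 ^ 1 * 933120 by norm_num,
      Nat.factorization_mul (by norm_num) (by norm_num), Finsupp.add_apply,
      Nat.Prime.factorization_pow (by norm_num), Finsupp.single_eq_same,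
      Nat.factorization_eq_zero_of_not_dvd (by norm_num)]
    norm_num
  have top : ∀ z : S4, orderOf z = 13 → ∃ S : Sylow 13 S4, (S : Subgroup S4) = zpowers z := by
    intro z hz
    obtain ⟨S, hle⟩ := (IsPGroup.of_card (n := 1) (G := zpowers z) (p := 13)
      (by rw [Nat.card_zpowers, hz, pow_one])).exists_le_sylow
    exact ⟨S, (eq_of_le_of_card_ge hle (by rw [hS, Nat.card_zpowers, hz])).symm⟩
  obtain ⟨S, hSx⟩ := top x hxo
  obtain ⟨R, hRk⟩ := top k13 hko
  obtain ⟨a, ha⟩ := MulAction.exists_smul_eq S4 S R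
  have hmap : ∀ z, z ∈ zpowers k13 ↔ a⁻¹ * z * a ∈ zpowers x := by
    intro z
    rw [← hRk, ← ha, Sylow.coe_subgroup_smul, mem_pointwise_smul_iff_inv_smul_mem, ← map_inv,
      MulAut.smul_def, MulAut.conj_apply, inv_inv, hSx]
  set y' := a * y * a⁻¹ with hy'
  have hmem : ∃ i : ℤ, P.f (y' * k13 * y'⁻¹) = P.f (k13 ^ i) := by
    obtain ⟨j, hj⟩ := mem_zpowers_iff.1 ((hmap k13).1 (mem_zpowers _))
    have h1 : P.f (a⁻¹ * (y' * k13 * y'⁻¹) * a) ∈ zpowers c := by
      have e : a⁻¹ * (y' * k13 * y'⁻¹) * a = y * (a⁻¹ * k13 * a) * y⁻¹ := by rw [hy']; group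
      rw [e, ← hj, map_mul, map_mul, map_inv, map_zpow, hx, ← conj_zpow]
      exact zpow_mem hn j
    obtain ⟨i, hi⟩ := mem_zpowers_iff.1 h1
    rw [← hx, ← map_zpow] at hi
    obtain ⟨l, hl⟩ := mem_zpowers_iff.1 ((hmap (a * x ^ i * a⁻¹)).2 (by
      rw [show a⁻¹ * (a * x ^ i * a⁻¹) * a = x ^ i by group]; exact zpow_mem_zpowers _ _))
    refine ⟨l, ?_⟩
    rw [hl, map_mul _ _ a⁻¹, map_mul _ a, hi, ← map_mul, ← map_mul]
    exact congrArg P.f (by group)
  obtain ⟨i, hi⟩ := hmem
  have h13 : k13 ^ (13 : ℤ) = 1 := by rw [zpow_ofNat, k13_pow]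
  rw [zpow_eq_zpow_emod' i (n := 13) (by rw [← zpow_natCast]; exact h13)] at hi
  obtain ⟨n, hn13, hi⟩ : ∃ n : ℕ, n < 13 ∧ P.f (y' * k13 * y'⁻¹) = P.f (k13 ^ n) := by
    have h0 := Int.emod_nonneg i (show (13 : ℤ) ≠ 0 by norm_num)
    have h3 := Int.emod_lt_of_pos i (show (0 : ℤ) < 13 by norm_num)
    refine ⟨(i % 13).toNat, by omega, ?_⟩
    rw [hi, ← zpow_natCast, Int.toNat_of_nonneg h0]
    rfl
  have heq : y' * k13 * y'⁻¹ = k13 ^ n := by
    rcases P.eq_iff.1 hi with e | e
    · exact e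
    · exfalso
      refine hm13 ?_
      have h1 : (y' * k13 * y'⁻¹) ^ 13 = 1 := by
        rw [conj_pow, k13_pow, mul_one, mul_inv_cancel]
      rwa [e, hnm, ← pow_mul, mul_comm n, pow_mul, k13_pow, one_pow, mul_one] at h1
  have hu1 : P.f y * P.f y = 1 := by
    have := pow_orderOf_eq_one (P.f y)
    rwa [hu2, pow_two] at this
  have hy1 : P.f y ≠ 1 := fun e => by rw [e, orderOf_one] at hu2; omega
  have hy2' : P.f y' * P.f y' = 1 := by
    rw [← map_mul, show y' * y' = a * (y * y) * a⁻¹ by rw [hy']; group, map_mul, map_mul,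
      map_mul P.f y y, hu1, mul_one, map_inv, mul_inv_cancel]
  have hy1' : P.f y' ≠ 1 := by
    rw [hy', map_mul, map_mul, map_inv, Ne, conj_eq_one_iff]
    exact hy1
  have hy2 := P.sq_of_invol hy2'
  have hp := P.ne_of_invol hy1'
  have hsq : k13 ^ (n * n) = k13 := by
    rw [pow_mul, ← heq, conj_pow, ← heq,
      show y' * (y' * k13 * y'⁻¹) * y'⁻¹ = y' * y' * k13 * (y' * y')⁻¹ by group]
    rcases hy2 with e | e <;> rw [e]
    · group
    · rw [mul_inv_eq_iff_eq_mul, mul_neg_one, neg_one_mul]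
  have hmod : n * n % 13 = 1 := by
    have := pow_eq_pow_iff_modEq.1 (hsq.trans (pow_one k13).symm)
    rwa [hko] at this
  rcases sq_thirteen ⟨n, hn13⟩ hmod with e | e <;> simp only at e <;> subst e
  · exact no_normalise hy2 hp (Or.inl (by rw [heq, pow_one]))
  · exact no_normalise hy2 hp (Or.inr heq)

/-- The image is the whole group. -/
theorem range_eq_top_of (ct : centralizer ({P.f t4} : Set G) ≤ P.f.range) : P.f.range = ⊤ := by
  classical
  by_contra hne
  haveI := Fintype.ofFinite G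
  set H := P.f.range with hH
  haveI : Fintype (G ⧸ H) := Fintype.ofFinite _
  set τ := P.f t4 with hτ
  let φ : G → G ⧸ H := fun g => ((g * τ * g⁻¹ : G) : G ⧸ H)
  set s : Finset G := Finset.univ.filter fun g => g ∉ H with hs
  set t : Finset (G ⧸ H) := Finset.univ.erase ((1 : G) : G ⧸ H) with ht
  have hmaps : ∀ g ∈ s, φ g ∈ t := by
    intro g hg
    refine Finset.mem_erase.2 ⟨fun e => (Finset.mem_filter.1 hg).2 (P.mem_of_invol ct ?_),
      Finset.mem_univ _⟩
    have := inv_mem (QuotientGroup.eq.1 e)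
    rw [mul_one, inv_inv] at this
    exact this
  obtain ⟨g₀, hg₀⟩ : ∃ g, g ∉ H := by
    by_contra h
    simp only [not_exists, not_not] at h
    exact hne (eq_top_iff.2 fun g _ => h g)
  have htne : t.Nonempty := ⟨_, hmaps g₀ (Finset.mem_filter.2 ⟨Finset.mem_univ _, hg₀⟩)⟩
  have hscard : s.card = (H.index - 1) * Nat.card H := by
    have e : (Finset.univ.filter fun g : G => g ∈ H).card = Nat.card H := by
      rw [Nat.card_eq_fintype_card]
      exact (Fintype.card_subtype _).symm
    have h2 := Finset.card_filter_add_card_filter_not (s := (Finset.univ : Finset G)) (· ∈ H)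
    rw [e, Finset.card_univ, ← Nat.card_eq_fintype_card, ← H.card_mul_index] at h2
    rw [hs, Nat.sub_mul, one_mul, mul_comm H.index]
    omega
  have htcard : t.card = H.index - 1 := by
    rw [ht, Finset.card_erase_of_mem (Finset.mem_univ _), Finset.card_univ,
      ← Nat.card_eq_fintype_card]
    rfl
  obtain ⟨q, hq, hbig⟩ := Finset.exists_le_card_fiber_of_mul_le_card_of_maps_to
    (n := Nat.card H) hmaps htne (by rw [htcard, hscard])
  set F : Finset G := s.filter fun g => φ g = q with hF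
  have hFne : F.Nonempty := Finset.card_pos.1 (lt_of_lt_of_le (by rw [P.card_range]; norm_num) hbig)
  obtain ⟨a, ha⟩ := hFne
  set u := a * τ * a⁻¹ with hu
  have ha' : a ∉ H := (Finset.mem_filter.1 (Finset.mem_filter.1 ha).1).2
  have huH : u ∉ H := fun h => ha' (P.mem_of_invol ct h)
  have hτ2 : τ * τ = 1 := by rw [hτ, ← map_mul, t4_facts.1, map_one]
  have invol : ∀ g : G, (g * τ * g⁻¹)⁻¹ = g * τ * g⁻¹ := fun g => by
    rw [inv_eq_of_mul_eq_one_right]
    calc g * τ * g⁻¹ * (g * τ * g⁻¹) = g * (τ * τ) * g⁻¹ := by group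
      _ = 1 := by rw [hτ2]; group
  set D : Subgroup G := H ⊓ H.comap (MulAut.conj u).toMonoidHom with hD
  have hmem : ∀ g ∈ F, u * (g * τ * g⁻¹) ∈ D := by
    intro g hg
    have e : φ a = φ g := by rw [(Finset.mem_filter.1 ha).2, (Finset.mem_filter.1 hg).2]
    have h1 : u * (g * τ * g⁻¹) ∈ H := by
      have h := QuotientGroup.eq.1 e
      rw [invol] at h
      exact h
    have hui : u⁻¹ = u := invol a
    have e2 : u * (u * (g * τ * g⁻¹)) = g * τ * g⁻¹ := by
      calc u * (u * (g * τ * g⁻¹)) = u⁻¹ * (u * (g * τ * g⁻¹)) := by rw [hui]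
        _ = g * τ * g⁻¹ := by group
    refine ⟨h1, ?_⟩
    show u * (u * (g * τ * g⁻¹)) * u⁻¹ ∈ H
    rw [e2]
    have := inv_mem h1
    rwa [mul_inv_rev, invol g] at this
  -- at least 5265 elements in D
  have hD1 : 5265 ≤ Nat.card D := by
    have hfib : ∀ d ∈ F.image (fun g => u * (g * τ * g⁻¹)),
        (F.filter fun g => u * (g * τ * g⁻¹) = d).card ≤
          Nat.card (centralizer ({τ} : Set G)) := by
      intro d hd
      obtain ⟨b, -, hb⟩ := Finset.mem_image.1 hd
      rw [← Nat.card_eq_finsetCard]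
      refine Nat.card_le_card_of_injective (fun g => ⟨b⁻¹ * g.1,
        mem_centralizer_singleton_iff.2 ?_⟩) fun g g' e => ?_
      · have h := mul_left_cancel ((Finset.mem_filter.1 g.2).2.trans hb.symm)
        calc b⁻¹ * g.1 * τ = b⁻¹ * (g.1 * τ * g.1⁻¹) * g.1 := by group
          _ = τ * (b⁻¹ * g.1) := by rw [h]; group
      · exact Subtype.ext (mul_left_cancel (congrArg Subtype.val e))
    have h1 := Finset.card_le_mul_card_image F _ hfib
    have h2 : (F.image fun g => u * (g * τ * g⁻¹)).card ≤ Nat.card D := by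
      rw [← Nat.card_eq_finsetCard]
      refine Nat.card_le_card_of_injective (fun d => (⟨d.1, by
        obtain ⟨g, hg, e⟩ := Finset.mem_image.1 d.2
        exact e ▸ hmem g hg⟩ : D)) fun d d' e =>
          Subtype.ext (congrArg (fun x : D => (x : G)) e)
    have h3 := P.card_cent_le ct
    have h4 : 6065280 ≤ F.card := P.card_range ▸ hbig
    have h5 : F.card ≤ 1152 * Nat.card D := h1.trans (Nat.mul_le_mul h3 h2)
    omega
  -- no elements of order three
  have hD3 : ¬ 3 ∣ Nat.card D := by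
    intro h
    haveI : Fact (Nat.Prime 3) := ⟨Nat.prime_three⟩
    obtain ⟨d, hd⟩ := exists_prime_orderOf_dvd_card' 3 h
    obtain ⟨⟨x, hx⟩, hd2⟩ := d.2
    have hd3 : (d : G) ^ 3 = 1 := by
      have := pow_orderOf_eq_one d
      rw [hd] at this
      exact congrArg Subtype.val this
    obtain ⟨x', hx', hx3⟩ := P.lift_three (x := x) (by rw [hx]; exact hd3)
    have hd1 : (d : G) ≠ 1 := fun e => by
      rw [show d = 1 from Subtype.ext e, orderOf_one] at hd
      omega
    refine huH (P.mem_of_three hx3 (fun e => hd1 ?_) (g := u) ?_)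
    · rw [← hx, ← hx', e, map_one]
    · rw [hx', hx]
      exact hd2
  have hDdvd : Nat.card D ∣ 729 * 8320 := by
    have := Subgroup.card_dvd_of_le (inf_le_left : D ≤ H)
    rwa [P.card_range] at this
  have hD8320 : Nat.card D ∣ 8320 := by
    refine Nat.Coprime.dvd_of_dvd_mul_left ?_ hDdvd
    rw [show (729 : ℕ) = 3 ^ 6 by norm_num]
    exact ((Nat.Prime.coprime_iff_not_dvd Nat.prime_three).2 hD3).symm.pow_right 6
  have hDcard : Nat.card D = 8320 := by
    obtain ⟨k, hk⟩ := hD8320
    rcases k with _ | _ | k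
    · omega
    · omega
    · exfalso
      have : Nat.card D * 2 ≤ Nat.card D * (k + 1 + 1) := Nat.mul_le_mul_left _ (by omega)
      omega
  -- the normaliser of a Sylow 13-subgroup has even order
  haveI : Fact (Nat.Prime 13) := ⟨by norm_num⟩
  haveI : Fact (Nat.Prime 2) := ⟨Nat.prime_two⟩
  let S : Sylow 13 D := default
  have hScard : Nat.card (S : Subgroup D) = 13 := by
    rw [Sylow.card_eq_multiplicity, hDcard, show (8320 : ℕ) = 13 ^ 1 * 640 by norm_num,
      Nat.factorization_mul (by norm_num) (by norm_num), Finsupp.add_apply,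
      Nat.Prime.factorization_pow (by norm_num), Finsupp.single_eq_same,
      Nat.factorization_eq_zero_of_not_dvd (by norm_num)]
    norm_num
  have hidx : (S : Subgroup D).index = 640 := by
    have := (S : Subgroup D).card_mul_index
    rw [hScard, hDcard] at this
    omega
  have hn640 : Nat.card (Sylow 13 D) ∣ 640 := hidx ▸ S.card_dvd_index
  have hmod := card_sylow_modEq_one 13 D
  have hn : Nat.card (Sylow 13 D) = 1 ∨ Nat.card (Sylow 13 D) = 40 := by
    have hle := Nat.le_of_dvd (by norm_num) hn640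
    exact sylow13 ⟨_, Nat.lt_succ_of_le hle⟩ hn640 (by
      unfold Nat.ModEq at hmod; simpa using hmod)
  set N := normalizer ((S : Subgroup D) : Set D) with hN
  have hN2 : 2 ∣ Nat.card N := by
    have h := N.card_mul_index
    have h' : N.index = Nat.card (Sylow 13 D) := S.card_eq_index_normalizer.symm
    rw [h', hDcard] at h
    rcases hn with e | e <;> rw [e] at h <;> omega
  obtain ⟨w, hw⟩ := exists_prime_orderOf_dvd_card' 2 hN2
  haveI : IsCyclic (S : Subgroup D) := isCyclic_of_prime_card hScard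
  obtain ⟨c, hc⟩ := IsCyclic.exists_generator (α := (S : Subgroup D))
  have hco : orderOf c = 13 := (orderOf_eq_card_of_forall_mem_zpowers hc).trans hScard
  refine P.no_thirteen (c := ((c : D) : G)) (u := ((w : D) : G)) (c : D).2.1 ?_ (w : D).2.1 ?_ ?_
  · rw [Subgroup.orderOf_coe, Subgroup.orderOf_coe, hco]
  · rw [Subgroup.orderOf_coe, Subgroup.orderOf_coe, hw]
  · obtain ⟨i, hi⟩ := mem_zpowers_iff.1 (hc ⟨_, (mem_normalizer_iff.1 w.2 _).1 c.2⟩)
    refine mem_zpowers_iff.2 ⟨i, ?_⟩
    have := congrArg (fun x : (S : Subgroup D) => ((x : D) : G)) hi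
    simpa using this

end Hyp

end Cfsg.Agent.L43Three.CaseB
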