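import Cfsg.Agent.Lib.L43Three.CaseB.Strong

/-!
S3373, case B: every involution of the image commutes with an element of order three.
-/

set_option autoImplicit false
set_option maxRecDepth 40000
set_option maxHeartbeats 400000
set_option linter.constructorNameAsVariable false
set_option linter.style.haveILetI false
set_option linter.unusedSectionVars false

namespace Cfsg.Agent.L43Three.CaseB

open Subgroup

/-- The semidihedral group of order sixteen in `GL(2,3)`. -/
def sdA : Fin 16 → F3 × F3 × F3 × F3 :=
  ![(.z, .o, .o, .z), (.z, .o, .d, .z), (.z, .d, .o, .z), (.z, .d, .d, .z),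
    (.o, .z, .z, .o), (.o, .z, .z, .d), (.o, .o, .o, .d), (.o, .o, .d, .o),
    (.o, .d, .o, .o), (.o, .d, .d, .d), (.d, .z, .z, .o), (.d, .z, .z, .d),
    (.d, .o, .o, .o), (.d, .o, .d, .d), (.d, .d, .o, .d), (.d, .d, .d, .o)]

/-- The index in the semidihedral group. -/
def sdIdx : F3 → F3 → F3 → F3 → Fin 16
  | .z, .o, .o, .z => 0
  | .z, .o, .d, .z => 1
  | .z, .d, .o, .z => 2
  | .z, .d, .d, .z => 3
  | .o, .z, .z, .o => 4
  | .o, .z, .z, .d => 5
  | .o, .o, .o, .d => 6
  | .o, .o, .d, .o => 7
  | .o, .d, .o, .o => 8
  | .o, .d, .d, .d => 9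
  | .d, .z, .z, .o => 10
  | .d, .z, .z, .d => 11
  | .d, .o, .o, .o => 12
  | .d, .o, .d, .d => 13
  | .d, .d, .o, .d => 14
  | .d, .d, .d, .o => 15
  | _, _, _, _ => 0

/-- A block diagonal or antidiagonal code. -/
def syF : Bool → F3 × F3 × F3 × F3 → F3 × F3 × F3 × F3 → M4
  | false, (a, b, c, d), (p, q, r, s) =>
    ⟨⟨a, b, .z, .z⟩, ⟨c, d, .z, .z⟩, ⟨.z, .z, p, q⟩, ⟨.z, .z, r, s⟩⟩
  | true, (a, b, c, d), (p, q, r, s) =>
    ⟨⟨.z, .z, a, b⟩, ⟨.z, .z, c, d⟩, ⟨p, q, .z, .z⟩, ⟨r, s, .z, .z⟩⟩

/-- An element of the Sylow 2-subgroup. -/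
def syM (s : Bool) (i j : Fin 16) : M4 := syF s (sdA i) (sdA j)

/-- The parameters of an element of the Sylow 2-subgroup. -/
def syDec : M4 → Bool × Fin 16 × Fin 16
  | ⟨⟨a, b, c, d⟩, ⟨e, g, h, k⟩, ⟨p, q, r, u⟩, ⟨v, w, x, y⟩⟩ =>
    if a = .z ∧ b = .z then (true, sdIdx c d h k, sdIdx p q v w)
    else (false, sdIdx a b e g, sdIdx r u x y)

/-- The product of two by two matrices. -/
def mul22 : F3 × F3 × F3 × F3 → F3 × F3 × F3 × F3 → F3 × F3 × F3 × F3
  | (a, b, c, d), (p, q, r, s) =>
    ((a.mul p).add (b.mul r), (a.mul q).add (b.mul s),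
      (c.mul p).add (d.mul r), (c.mul q).add (d.mul s))

theorem syF_false (t : Bool) (A B C D : F3 × F3 × F3 × F3) :
    M4.mul (syF false A B) (syF t C D) = syF t (mul22 A C) (mul22 B D) := by
  obtain ⟨a, b, c, d⟩ := A
  obtain ⟨p, q, r, s⟩ := B
  obtain ⟨a', b', c', d'⟩ := C
  obtain ⟨p', q', r', s'⟩ := D
  cases t <;>
    simp only [syF, mul22, M4.mul, M4.rmul, R4.smul_eq, R4.add, F3.mul_z, F3.z_mul, F3.add_z,
      F3.z_add]

theorem syF_true (t : Bool) (A B C D : F3 × F3 × F3 × F3) :
    M4.mul (syF true A B) (syF t C D) = syF (!t) (mul22 A D) (mul22 B C) := by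
  obtain ⟨a, b, c, d⟩ := A
  obtain ⟨p, q, r, s⟩ := B
  obtain ⟨a', b', c', d'⟩ := C
  obtain ⟨p', q', r', s'⟩ := D
  cases t <;>
    simp only [syF, mul22, M4.mul, M4.rmul, R4.smul_eq, R4.add, F3.mul_z, F3.z_mul, F3.add_z,
      F3.z_add, Bool.not_true, Bool.not_false]

theorem sdA_mul : ∀ i j, ∃ k, mul22 (sdA i) (sdA j) = sdA k := by decide +kernel

theorem syM_mul (s t : Bool) (i j k l : Fin 16) :
    ∃ u m n, M4.mul (syM s i j) (syM t k l) = syM u m n := by
  cases s
  · obtain ⟨m, hm⟩ := sdA_mul i k
    obtain ⟨n, hn⟩ := sdA_mul j l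
    exact ⟨t, m, n, by rw [syM, syM, syM, syF_false, hm, hn]⟩
  · obtain ⟨m, hm⟩ := sdA_mul i l
    obtain ⟨n, hn⟩ := sdA_mul j k
    exact ⟨!t, m, n, by rw [syM, syM, syM, syF_true, hm, hn]⟩

theorem syM_pow : ∀ (s : Bool) (i j : Fin 16), (syM s i j).det = .o →
    M4.pow (syM s i j) 16 = M4.one := by decide +kernel

theorem syM_one : syM false 4 4 = M4.one := by decide +kernel

/-- The Sylow 2-subgroup. -/
def T4 : Subgroup S4 where
  carrier := {x | ∃ s i j, code x = syM s i j}
  one_mem' := ⟨false, 4, 4, by rw [code_one, syM_one]⟩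
  mul_mem' := by
    rintro x y ⟨s, i, j, hx⟩ ⟨t, k, l, hy⟩
    obtain ⟨u, m, n, e⟩ := syM_mul s t i j k l
    exact ⟨u, m, n, by rw [code_mul, hx, hy, e]⟩
  inv_mem' := by
    rintro x ⟨s, i, j, hx⟩
    have h16 : x ^ 16 = 1 := code_injective (by
      rw [code_pow, hx, syM_pow s i j (by rw [← hx]; exact det_code x), code_one])
    have hmul : ∀ n : ℕ, ∃ t k l, code (x ^ n) = syM t k l := by
      intro n
      induction n with
      | zero => exact ⟨false, 4, 4, by rw [pow_zero, code_one, syM_one]⟩
      | succ n ih =>
        obtain ⟨t, k, l, h⟩ := ih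
        obtain ⟨u, m, q, e⟩ := syM_mul t s k l i j
        exact ⟨u, m, q, by rw [pow_succ, code_mul, h, hx, e]⟩
    rw [inv_eq_of_mul_eq_one_right (show x * x ^ 15 = 1 by rw [← pow_succ']; exact h16)]
    exact hmul 15

theorem card_T4 : Nat.card T4 = 256 := by
  let D := {p : Bool × Fin 16 × Fin 16 // (syM p.1 p.2.1 p.2.2).det = .o}
  let f : D → T4 := fun p => ⟨mk4 _ p.2, p.1.1, p.1.2.1, p.1.2.2, code_mk4 _ _⟩
  have hbij : Function.Bijective f := by
    constructor
    · rintro ⟨p, hp⟩ ⟨q, hq⟩ h
      have h2 : syM p.1 p.2.1 p.2.2 = syM q.1 q.2.1 q.2.2 := by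
        have := congrArg (fun u : T4 => code (u : S4)) h
        simpa only [f, code_mk4] using this
      have key : ∀ s i j, syDec (syM s i j) = (s, i, j) := by decide +kernel
      have := congrArg syDec h2
      rw [key, key] at this
      exact Subtype.ext this
    · rintro ⟨x, s, i, j, h⟩
      exact ⟨⟨(s, i, j), by rw [← h]; exact det_code x⟩,
        Subtype.ext (code_injective (by rw [code_mk4]; exact h.symm))⟩
  rw [← Nat.card_eq_of_bijective f hbij, Nat.card_eq_fintype_card]
  decide +kernel

/-- The table of commuting elements of order three, packed. -/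
def invCode : ℕ :=
  0x3874b500000000000000000000000000000000000000000000000000000df186500000000000000000000000000000000000000000000000000002d343d000000000000000000000000001a699ba0000000000000000000000000000000000000000000000000000000000084294800000000000000000000000000000000000000037d25d4000000000000000000000000000000000000000000000000000000000000000015d9e41000000000000096c2ae80000000000000000000000000000000000000000000000000000000000000000000000000000000000009ceb248000000000000000000000000000000000000000e18f1d00000000000000000000000000000000000000000000000000000000000e18f1a00000000000000000000000000371d010000000000000000000000000000000000000000000000000000196640a000000000000065984a000000000000000000000000000000000000000000000000000000000000000000df1ed900000000000000000000000000000000000000075b87b000000000000000000000000000000000000000000000000000000000001a34ab40000000000000000000000000124d718000000000000000000000000000000000000000000000000000038728b80000000000000000000000000000000000000000000000000000df210b0000000000000000000000000000000000000000000000000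000000000000000000000000a861a0000000000000000000000000037b6c88000000000000000000000000000000000000000000000000000000000037b6c7c000000000000000000000000000000000000002841d7a00000000000000000000000000000000000000000000000000000000000000000000000000000000000000000000000000000000a1056100000000000000e142a0000000000000000000000000000000000000000000000000000000000000000000000000000000000000076ec24385f8700000000000000000000000000000000000000000000000000000000000000000000000000000000000000000000deca7237b4bf400000000000000000000000000000000000000000000000000000000000000000000000000000000000037a3950000000000000273b02436fb86c0000000000000dbdd29000000000000036f95d40000000000000dbdd1700000000000000000000dbf0eb36f7480000000000000000000000000000000000000000000000000000000000000000000000000000000000000000000000000000000000000000000000000000000000000000000000000000000000000000000000000000000000000000000000000000000000000000000000036f96880000000000000dbf10f000000000000036f745c0000000000000dbeb6600000000000000000000dbe2d236fb8b400000000000000000000000000000000000000000000000000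0000000000000000000000000000dbda5900000000000000000000000000000000000000000000000000000000000dbda1a0000000000000000000000000036f688c00000036f69400000000000000dbda4736fb8240000000000000dbdd17000000000000036f96640000000000000dbdd2000000000000000000000dbf0e236f74a4000000000000000000000000000000000000000000000000000000000000000000000000000000000000000000000000000000000000000000000000000000000000000000000000000000000000000000000000000000000000000000000000000000000000000000000036f745c0000000000000dbe2d2000000000000036fb8b40000000000000dbe88d00000000000000000000dbdd2036f9688000000000000000000000000000000000000000dbdce10000000000000000000000000036fac7800000036f95b00000000000000dbe8450000000000000000000000000038507f800000000000000000000000000000000000000000000000000000000000000000000000000000000000000000000000000000000dbdcea0000000000000000000000000036fad5000000036f96400000000000000dbe87236f7f780000000000000dbeb66000000000000036fa1380000000000000dbee2d00000000000000000000dbdfd536fc43c00000036fb8b40000000000000dbdd20000000000000036f96880000000000000dbdd2900000000000000000000dbf10f36f745c000000000000000000000000000000000000000dbdcf30000000000000000000000000036face400000036f96d00000000000000dbe884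

/-- The table entry. -/
def invWit (s : Bool) (i j : Fin 16) : M4 :=
  strongConj ((invCode >>> (26 * ((if s then 256 else 0) + 16 * i.val + j.val))) &&& 67108863)

theorem inv_table : ∀ (s : Bool) (i j : Fin 16), (syM s i j).det = .o →
    (M4.mul (syM s i j) (syM s i j) = M4.one ∨
      M4.mul (syM s i j) (syM s i j) = M4.neg M4.one) →
    Proper (syM s i j) →
    (invWit s i j).det = .o ∧ M4.pow (invWit s i j) 3 = M4.one ∧ invWit s i j ≠ M4.one ∧
      M4.mul (invWit s i j) (syM s i j) = M4.mul (syM s i j) (invWit s i j) := by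
  decide +kernel

/-- An element with square one or minus one which is neither commutes with an element of order
three. -/
theorem exists_three_commute {x : S4} (h2 : x * x = 1 ∨ x * x = -1) (hp : x ≠ 1 ∧ x ≠ -1) :
    ∃ s : S4, s ^ 3 = 1 ∧ s ≠ 1 ∧ s * x = x * s := by
  haveI : Fact (Nat.Prime 2) := ⟨Nat.prime_two⟩
  have hsq : ((-1 : S4)) * -1 = 1 :=
    code_injective (by rw [code_mul, code_neg, code_one]; decide +kernel)
  have h4 : x ^ 2 ^ 2 = 1 := by
    rw [show (2 : ℕ) ^ 2 = 2 + 2 by rfl, pow_add, pow_two]
    rcases h2 with h | h <;> rw [h]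
    · rw [one_mul]
    · exact hsq
  have hz : IsPGroup 2 (zpowers x) := by
    obtain ⟨i, -, hi⟩ := (Nat.dvd_prime_pow Nat.prime_two).1 (orderOf_dvd_of_pow_eq_one h4)
    exact IsPGroup.of_card (n := i) (by rw [Nat.card_zpowers, hi])
  obtain ⟨R, hR⟩ := hz.exists_le_sylow
  obtain ⟨S, hS⟩ := (IsPGroup.of_card (n := 8) (G := T4) (p := 2)
    (by rw [card_T4]; norm_num)).exists_le_sylow
  have hST : (S : Subgroup S4) = T4 := by
    refine (eq_of_le_of_card_ge hS ?_).symm
    rw [card_T4, Sylow.card_eq_multiplicity, card_S4,
      show (12130560 : ℕ) = 2 ^ 8 * 47385 by norm_num,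
      Nat.factorization_mul (by norm_num) (by norm_num), Finsupp.add_apply,
      Nat.Prime.factorization_pow Nat.prime_two, Finsupp.single_eq_same,
      Nat.factorization_eq_zero_of_not_dvd (by norm_num)]
    norm_num
  obtain ⟨a, ha⟩ := MulAction.exists_smul_eq S4 R S
  obtain ⟨s, i, j, hm⟩ : a * x * a⁻¹ ∈ T4 := by
    rw [← hST, ← ha, Sylow.coe_subgroup_smul]
    exact smul_mem_pointwise_smul _ _ _ (hR (mem_zpowers x))
  have hsq' : a * x * a⁻¹ * (a * x * a⁻¹) = a * (x * x) * a⁻¹ := by group
  have hc : M4.mul (syM s i j) (syM s i j) = M4.one ∨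
      M4.mul (syM s i j) (syM s i j) = M4.neg M4.one := by
    rw [← hm, ← code_mul, hsq']
    rcases h2 with h | h
    · exact Or.inl (by rw [h, mul_one, mul_inv_cancel, code_one])
    · refine Or.inr ?_
      rw [h, mul_neg_one, neg_mul, mul_inv_cancel, code_neg, code_one]
  have hpr : Proper (syM s i j) := by
    rw [← hm]
    constructor
    · intro e
      exact hp.1 (conj_eq_one_iff.1 (code_injective (e.trans code_one.symm)))
    · intro e
      rw [← code_one, ← code_neg] at e
      have e2 := code_injective e
      rw [mul_inv_eq_iff_eq_mul, neg_one_mul, ← mul_neg_one] at e2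
      exact hp.2 (mul_left_cancel e2)
  obtain ⟨hd, h3, h1, hcom⟩ := inv_table s i j (by rw [← hm]; exact det_code _) hc hpr
  refine ⟨a⁻¹ * mk4 _ hd * a, ?_, ?_, ?_⟩
  · rw [show a⁻¹ * mk4 _ hd * a = a⁻¹ * mk4 _ hd * a⁻¹⁻¹ by rw [inv_inv], conj_pow,
      show mk4 _ hd ^ 3 = 1 from code_injective (by rw [code_pow, code_mk4, h3, code_one]),
      mul_one, mul_inv_cancel]
  · intro e
    refine h1 ?_
    have e2 : mk4 _ hd = 1 := by
      calc mk4 _ hd = a * (a⁻¹ * mk4 _ hd * a) * a⁻¹ := by group
        _ = 1 := by rw [e, mul_one, mul_inv_cancel]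
    rw [← code_mk4 _ hd, e2, code_one]
  · have e : mk4 _ hd * (a * x * a⁻¹) = a * x * a⁻¹ * mk4 _ hd :=
      code_injective (by rw [code_mul (mk4 _ hd), code_mul _ (mk4 _ hd), code_mk4, hm]; exact hcom)
    calc a⁻¹ * mk4 _ hd * a * x = a⁻¹ * (mk4 _ hd * (a * x * a⁻¹)) * a := by group
      _ = x * (a⁻¹ * mk4 _ hd * a) := by rw [e]; group

end Cfsg.Agent.L43Three.CaseB
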