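import Cfsg.Agent.Lib.L43Three.CaseB.Twist
import Cfsg.Agent.Lib.Classical.SL
import Mathlib.GroupTheory.Sylow

/-!
S3373, case B: the image is strongly embedded at the prime three.
-/

set_option autoImplicit false
set_option maxRecDepth 40000
set_option maxHeartbeats 400000
set_option linter.constructorNameAsVariable false
set_option linter.style.haveILetI false
set_option linter.unusedSectionVars false

namespace Cfsg.Agent.L43Three.CaseB

open Subgroup
open Cfsg.Agent.ThreeTI.Mono (inJ)

/-- An upper unitriangular code. -/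
def uTri (a b c d e g : F3) : M4 :=
  ⟨⟨.o, a, b, c⟩, ⟨.z, .o, d, e⟩, ⟨.z, .z, .o, g⟩, ⟨.z, .z, .z, .o⟩⟩

theorem det_uTri : ∀ a b c d e g : F3, (uTri a b c d e g).det = .o := by decide +kernel

theorem uTri_mul (a b c d e g a' b' c' d' e' g' : F3) :
    ∃ A B C D E H, M4.mul (uTri a b c d e g) (uTri a' b' c' d' e' g') = uTri A B C D E H := by
  simp only [M4.mul, M4.rmul, uTri, R4.smul_eq, R4.add, F3.mul_z, F3.mul_o, F3.z_mul, F3.o_mul,
    F3.add_z, F3.z_add]
  exact ⟨_, _, _, _, _, _, rfl⟩

theorem uTri_pow : ∀ a b c d e g : F3, M4.pow (uTri a b c d e g) 9 = M4.one := by decide +kernel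

/-- The upper unitriangular group. -/
def U4 : Subgroup S4 where
  carrier := {x | ∃ a b c d e g, code x = uTri a b c d e g}
  one_mem' := ⟨.z, .z, .z, .z, .z, .z, by rw [code_one]; rfl⟩
  mul_mem' := by
    rintro x y ⟨a, b, c, d, e, g, hx⟩ ⟨a', b', c', d', e', g', hy⟩
    obtain ⟨A, B, C, D, E, H, h⟩ := uTri_mul a b c d e g a' b' c' d' e' g'
    exact ⟨A, B, C, D, E, H, by rw [code_mul, hx, hy, h]⟩
  inv_mem' := by
    rintro x ⟨a, b, c, d, e, g, hx⟩
    have h9 : x ^ 9 = 1 := code_injective (by rw [code_pow, hx, uTri_pow, code_one])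
    have hmul : ∀ n : ℕ, ∃ A B C D E H, code (x ^ n) = uTri A B C D E H := by
      intro n
      induction n with
      | zero => exact ⟨.z, .z, .z, .z, .z, .z, by rw [pow_zero, code_one]; rfl⟩
      | succ n ih =>
        obtain ⟨A, B, C, D, E, H, h⟩ := ih
        obtain ⟨A', B', C', D', E', H', h'⟩ := uTri_mul A B C D E H a b c d e g
        exact ⟨A', B', C', D', E', H', by rw [pow_succ, code_mul, h, hx, h']⟩
    rw [inv_eq_of_mul_eq_one_right (show x * x ^ 8 = 1 by rw [← pow_succ']; exact h9)]
    exact hmul 8

theorem card_U4 : Nat.card U4 = 729 := by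
  let f : F3 × F3 × F3 × F3 × F3 × F3 → U4 := fun p =>
    ⟨mk4 (uTri p.1 p.2.1 p.2.2.1 p.2.2.2.1 p.2.2.2.2.1 p.2.2.2.2.2) (det_uTri _ _ _ _ _ _),
      _, _, _, _, _, _, code_mk4 _ _⟩
  have hbij : Function.Bijective f := by
    constructor
    · rintro ⟨a, b, c, d, e, g⟩ ⟨a', b', c', d', e', g'⟩ h
      have h2 := congrArg (fun u : U4 => code (u : S4)) h
      simp only [f, code_mk4, uTri, M4.mk.injEq, R4.mk.injEq, true_and, and_true] at h2
      simp [h2]
    · rintro ⟨x, a, b, c, d, e, g, h⟩
      exact ⟨(a, b, c, d, e, g), Subtype.ext (code_injective (by rw [code_mk4]; exact h.symm))⟩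
  rw [← Nat.card_eq_of_bijective f hbij, Nat.card_eq_fintype_card]
  decide +kernel

theorem card_S4 : Nat.card S4 = 12130560 := by
  have h := ClassicalSL.card_sl_mul (ι := Fin 4) (F := K)
  rw [ClassicalSL.card_gl_fin rfl, Nat.card_zmod] at h
  show Nat.card (Matrix.SpecialLinearGroup (Fin 4) K) = _
  norm_num [Fin.prod_univ_succ] at h
  rw [Nat.card_eq_fintype_card]
  omega

/-- Every element of order three is conjugate to an upper unitriangular one. -/
theorem exists_conj_U4 {x : S4} (h3 : x ^ 3 = 1) : ∃ a : S4, a * x * a⁻¹ ∈ U4 := by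
  haveI : Fact (Nat.Prime 3) := ⟨Nat.prime_three⟩
  have hp : IsPGroup 3 (zpowers x) := by
    obtain ⟨i, -, hi⟩ := (Nat.dvd_prime_pow Nat.prime_three).1
      (show orderOf x ∣ 3 ^ 1 from orderOf_dvd_of_pow_eq_one (by rw [pow_one]; exact h3))
    exact IsPGroup.of_card (n := i) (by rw [Nat.card_zpowers, hi])
  obtain ⟨R, hR⟩ := hp.exists_le_sylow
  obtain ⟨S, hS⟩ := (IsPGroup.of_card (n := 6) (G := U4) (p := 3) (by rw [card_U4]; norm_num)).exists_le_sylow
  have hSU : (S : Subgroup S4) = U4 := by
    refine (eq_of_le_of_card_ge hS ?_).symm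
    rw [card_U4, Sylow.card_eq_multiplicity, card_S4,
      show (12130560 : ℕ) = 3 ^ 6 * 16640 by norm_num,
      Nat.factorization_mul (by norm_num) (by norm_num), Finsupp.add_apply,
      Nat.Prime.factorization_pow Nat.prime_three, Finsupp.single_eq_same,
      Nat.factorization_eq_zero_of_not_dvd (by norm_num)]
    norm_num
  obtain ⟨a, ha⟩ := MulAction.exists_smul_eq S4 R S
  refine ⟨a, ?_⟩
  rw [← hSU, ← ha, Sylow.coe_subgroup_smul]
  exact smul_mem_pointwise_smul _ _ _ (hR (mem_zpowers x))

/-- The table of conjugators and classes, packed. -/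
def strongCode : ℕ :=
  0x388ae950000000000000037e0c51000000000000006db6e8d0000000000000037e040d000000000000006e6024100000000000000373564d2626fcd370ab1a132afcd370aaeb130504d264e6211350f4d26745a14f4d6ac000000000000006e63e790000000000000037ddea900000000000000373307d0000000000000037de1e100000000000000388f6250000000000000037334212626fd9370aaea132a469370ab1b1377a3d264dab113174a9263aaf14f4a55000000000000000388d0c1000000000000006f10e65000000000000003730e510000000000000037e263900000000000000388d3f90000000000000037311f526615d5370aade132afd9370aadf1377a31264e6151350f5926745953dcf7a4000000000000006e655410000000000000037dd35d000000000000006db57d10000000000000037de1ed00000000000000388d4050000000000000037356593709bbb2603645132823d134e58937b6b9a1327f71262a4f5133ae313d0e8c800000000000000388a349000000000000006f0f7a90000000000000037325310000000000000037e2645000000000000006e60d8d00000000000000373342d370bddb263c585132990513156493709bba2650841262a501133c4f93d0c2d0000000000000006e627bd0000000000000037e0c390000000000000037303050000000000000037e0419000000000000006e6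2fb90000000000000037312013709baf263c5911328249134e5953709bae1328ad52629991133ae3d3dcc648000000000000006e627b1000000000000006f0f79d000000000000006db57c5000000000000006f0f441000000000000006e62455000000000000006db5469134ddf12671c71264c0b12625cd113390e91325d5d370aeb7370aee63d0dd6400000000000000388c55d0000000000000037df5710000000000000037325190000000000000037df8a900000000000000388c895000000000000006db7695134d28d1339f01264b5652625cdd133904d13268a9370aee7370aeb63d0b76c00000000000000388a3310000000000000037dd3450000000000000037302ed000000000000006f0d215000000000000006e60229000000000000006db323d134c7291372e41264b54d262516d13390d11325d45370aeab370aeaa3d0f7f800000000000000809efa90000000000000037a9799000000000000008030a1d0000000000000037a87c900000000000000385135d0000000000000036f95b16eacfea14242852566c55257a3ad49628bf13d875113c4495258cfa14a2f4200000000000000080a3f6500000000000000938ad7900000000000000802e7e50000000000000037a43710000000000000038535890000000000000036fb7dd371d31613eb3512566c61257a3b9496564f13d7bf913fdf45258cfad49489900000000000000080a1d2d00000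000000000938fd2900000000000000802ba610000000000000037a659d0000000000000038557b50000000000000036f738536e43c613eb34525677b9257af1136e43c713d7bed13fdf39258db05494b7200000000000000080a11c90000000000000037a3be90000000000000036f8e950000000000000037a38190000000000000038563190000000000000036f8a5913fb941371cf4725699e5371cf7625904c913d4e5d257c9a513e7e1d3e1ba7000000000000000809fb010000000000000037a5e810000000000000036fb0c10000000000000037a5a450000000000000038508050000000000000036fac8513fc4a537cc15325699f1371cf4625904d513d59c1257c9b113e89813d591000000000000000080a4abd0000000000000037a80ad0000000000000036f6bfd0000000000000037a932d000000000000003852a310000000000000036f682d13fb94d371cf3b256a549371cf3a25c9f6d13d4e69257d50913e94e53d5b6f80000000000000080a3f590000000000000037a6979000000000000008030a110000000000000037a5a39000000000000003852a250000000000000036f8a4d2577dc1258b14d2564a3513c040914205c513d3795371d70e371d6df4320a940000000000000080a11d500000000000000938dafd0000000000000036fb0b50000000000000037a7c650000000000000038557c10000000000000036fac7925b23bd2552201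256558d13f935513e5fc913d2c3d371d6de37ceb1743206b800000000000000809ef9d00000000000000938ad6d00000000000000802ba550000000000000037a380d0000000000000038507f90000000000000036f68212577db5258b1412564a2913f934913e5fbd13d2c31371d6d2371d6d3432251812ddb4924e0c5d4a1c1d812de2e124e04c5809ef9e24d044924a71c549354cf12a369112c89cd493561312ddc8d128f3015b7453c12de425128e3d137a396212de19d24e03816e99c5e12a37d524a78194935b2312dda0524e0b194a1c094129f521251ae995b7440312a40a524e103549357482509b45251aacd36f66ee12a41e9128eb5d493588c12a4981128f2f536f697612a3a51128e3c536f65b712a46f9251a98936f6bfe12a37c9251ad55373123312a3f6124e0b25493560412ddb5524a7585802ba56126a9cd24a7951373133b12ddf2124a71b94a55c7c24d03ad12c89fd36f6d362509a79128f33136f6d3724cafb9128c2415be7a8412de1a924a744137311f6126a88924a780d37311f712dda1124a70754a55b382509319128e4994a1c09625096e512c835d49357582509ab1128f3c936f66eb25095a1128f65149354d0250996d128f28536f6d3f25091d5128e35537a39522509829128f14136f682f2509091128e21137a380e250945d128f50d49359e024d07a5128f0394a1c1e825096f124de39936f6e8f24d03d912c8aa136f66ea24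d029512c895d36f6d3e24d0661128e75d5b7452c2509d4512c81c536f65b3250983512c808136f683b24d015112c881936f682e24d051d12c8fb15b743e824970cd128f00936f6aab24d001912560bd493560624ce249128f3f94a55c8c2496f89128eaf936f696724cfb09128e72d36f696624cafa9128e3855be7a742496e45128f14d36f682324d015d128e21d36f68222496a79128f5195be7930129f535128c3115b743f725097e924de39d5b749072509bb5128f46d36f66e7249150112c8a9136f6d4612a4a91128e80d36f697a12de535128e44136f65ae371678036fdcb836f66ec3716a08371038436f69743716c9036fcecc36f6bfc129f54d128c2e14935b2224d011d24e05b1493561224d04e92517e4d36f66e612a42c9128ebcd493561f2509a35128f3654a1c0af12a1905128e43549353973716b3c36fd12c36f6aa8370366c36fcfe836f6964370352836fcea436f68202507209128c2d54a1c1ec24cdefd24a7a6d493575c24ce2c912c69254a55c9024cbec912c8a55493589412689dd128f37d5b7454024caf99128e44d5be7a883716b4436fd13436f6ab03716a0c371038836f6978370354836fcee80000000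

/-- The digit of a number in base three. -/
def dig (v k : ℕ) : F3 :=
  match v / 3 ^ k % 3 with
  | 0 => .z
  | 1 => .o
  | _ => .d

/-- The position of a unitriangular element. -/
def uIdx (a b c d e g : F3) : ℕ :=
  let n : F3 → ℕ := fun x => match x with | .z => 0 | .o => 1 | .d => 2
  ((((n a * 3 + n b) * 3 + n c) * 3 + n d) * 3 + n e) * 3 + n g

/-- The table entry. -/
def strongEntry (i : ℕ) : ℕ := (strongCode >>> (28 * i)) &&& 268435455

/-- The conjugator in an entry. -/
def strongConj (v : ℕ) : M4 :=
  ⟨⟨dig v 0, dig v 1, dig v 2, dig v 3⟩, ⟨dig v 4, dig v 5, dig v 6, dig v 7⟩,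
    ⟨dig v 8, dig v 9, dig v 10, dig v 11⟩, ⟨dig v 12, dig v 13, dig v 14, dig v 15⟩⟩

/-- The representatives of the classes of elements of order three. -/
def repThree : Fin 4 → M4 := ![zM, yM, xM, twM xM]

theorem det_repThree : ∀ i, (repThree i).det = .o := by decide +kernel

theorem strong_table : ∀ a b c d e g : F3, M4.pow (uTri a b c d e g) 3 = M4.one →
    uTri a b c d e g ≠ M4.one →
    let v := strongEntry (uIdx a b c d e g)
    let h := strongConj (v >>> 2)
    let t : Fin 4 := ⟨v % 4, Nat.mod_lt _ (by decide)⟩
    h.det = .o ∧ M4.mul h (repThree t) = M4.mul (uTri a b c d e g) h := by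
  decide +kernel

/-- Every element of order three is conjugate to one of the four representatives. -/
theorem exists_conj_rep {x : S4} (h3 : x ^ 3 = 1) (h1 : x ≠ 1) :
    ∃ (a : S4) (t : Fin 4), x = a * mk4 (repThree t) (det_repThree t) * a⁻¹ := by
  obtain ⟨b, A, B, C, D, E, H, hb⟩ := exists_conj_U4 h3
  have hb3 : M4.pow (uTri A B C D E H) 3 = M4.one := by
    rw [← hb, ← code_pow, conj_pow, h3, mul_one, mul_inv_cancel, code_one]
  have hb1 : uTri A B C D E H ≠ M4.one := fun e => h1 (conj_eq_one_iff.1
    (code_injective (hb.trans (e.trans code_one.symm))))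
  obtain ⟨hd, he⟩ := strong_table A B C D E H hb3 hb1
  set v := strongEntry (uIdx A B C D E H)
  let t : Fin 4 := ⟨v % 4, Nat.mod_lt _ (by decide)⟩
  refine ⟨b⁻¹ * mk4 _ hd, t, ?_⟩
  have e : mk4 _ hd * mk4 (repThree t) (det_repThree t) = (b * x * b⁻¹) * mk4 _ hd :=
    code_injective (by rw [code_mul, code_mul, code_mk4, code_mk4, hb]; exact he)
  rw [mul_assoc (b⁻¹) (mk4 _ hd), e]
  group

namespace Hyp

variable {G : Type*} [Group G] [Finite G] (P : Hyp G)
include P

theorem centralizer_conj {s : S4} (a : S4) (h : centralizer ({P.f s} : Set G) ≤ P.f.range) :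
    centralizer ({P.f (a * s * a⁻¹)} : Set G) ≤ P.f.range := by
  intro g hg
  have h2 := mem_centralizer_singleton_iff.1 hg
  rw [map_mul, map_mul, map_inv] at h2
  have := h (show (P.f a)⁻¹ * g * P.f a ∈ centralizer ({P.f s} : Set G) from
    mem_centralizer_singleton_iff.2 (by
      calc (P.f a)⁻¹ * g * P.f a * P.f s
          = (P.f a)⁻¹ * (g * (P.f a * P.f s * (P.f a)⁻¹)) * P.f a := by group
        _ = _ := by rw [h2]; group))
  rw [show g = P.f a * ((P.f a)⁻¹ * g * P.f a) * (P.f a)⁻¹ by group]
  exact mul_mem (mul_mem ⟨a, rfl⟩ this) (inv_mem ⟨a, rfl⟩)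

theorem centralizer_rep : ∀ t : Fin 4,
    centralizer ({P.f (mk4 (repThree t) (det_repThree t))} : Set G) ≤ P.f.range
  | 0 => P.centralizer_pure ⟨1, by
      rw [one_mul, inv_one, mul_one]
      exact code_injective (code_z4.trans (code_mk4 _ (det_repThree 0)).symm)⟩
  | 1 => P.centralizer_y4
  | 2 => P.centralizer_x4
  | 3 => by
    rw [show mk4 (repThree 3) (det_repThree 3) = sig x4 from code_injective (by
      rw [code_mk4, code_sig, code_x4]; rfl)]
    exact P.centralizer_sig_x4

theorem pure_commute_rep : ∀ t : Fin 4,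
    ∃ p, Pure p ∧ p * mk4 (repThree t) (det_repThree t) = mk4 (repThree t) (det_repThree t) * p
  | 0 => ⟨z4, ⟨1, by group⟩, code_injective (by rw [code_mul, code_mul, code_mk4, code_z4]; rfl)⟩
  | 1 => by
    refine ⟨AY (Multiplicative.ofAdd (1, 0)), AY_pure _ (by decide), code_injective ?_⟩
    rw [code_mul, code_mul, code_mk4, AY, code_mkElem]
    decide +kernel
  | 2 => by
    refine ⟨elemX .z (inJ A9Three.vc), pure_vc, code_injective ?_⟩
    rw [code_mul, code_mul, code_mk4, code_elemX]
    decide +kernel
  | 3 => by
    refine ⟨sig (elemX .z (inJ A9Three.vc)), pure_sig pure_vc, code_injective ?_⟩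
    rw [code_mul, code_mul, code_mk4, code_sig, code_elemX]
    decide +kernel

/-- The centraliser of an element of order three of the image lies in the image. -/
theorem centralizer_three {x : S4} (h3 : x ^ 3 = 1) (h1 : x ≠ 1) :
    centralizer ({P.f x} : Set G) ≤ P.f.range := by
  obtain ⟨a, t, rfl⟩ := exists_conj_rep h3 h1
  exact P.centralizer_conj a (P.centralizer_rep t)

/-- An element conjugating an element of order three of the image into the image lies in it. -/
theorem mem_of_three {x : S4} {g : G} (h3 : x ^ 3 = 1) (h1 : x ≠ 1)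
    (h : g * P.f x * g⁻¹ ∈ P.f.range) : g ∈ P.f.range := by
  obtain ⟨a, t, ha⟩ := exists_conj_rep h3 h1
  obtain ⟨p, hp, hc⟩ := P.pure_commute_rep t
  obtain ⟨b, hb⟩ := hp
  refine P.mem_of_cent (p := a * p * a⁻¹) ⟨a * b, by rw [← hb]; group⟩ ?_ h fun y hy => ?_
  · rw [ha]
    calc a * p * a⁻¹ * (a * mk4 (repThree t) (det_repThree t) * a⁻¹)
        = a * (p * mk4 (repThree t) (det_repThree t)) * a⁻¹ := by group
      _ = _ := by rw [hc]; group
  · have hy3 : P.f y ^ 3 = 1 := by
      rw [hy, conj_pow, ← map_pow, h3, map_one, mul_one, mul_inv_cancel]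
    obtain ⟨y', hy', hy'3⟩ := P.lift_three hy3
    rw [← hy']
    refine P.centralizer_three hy'3 fun e => h1 (P.eq_of_cube ?_ h3 (one_pow 3))
    rw [e, map_one, hy, eq_comm, conj_eq_one_iff] at hy'
    rw [hy', map_one]

end Hyp

end Cfsg.Agent.L43Three.CaseB
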