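import Cfsg.Agent.Lib.L43Three.CaseB.Setup
import Cfsg.Agent.Lib.Transfer.Fusion
import Cfsg.Agent.Lib.Solvable.Coprime

/-!
S3373, case B: subgroups meeting the image in a 3-group with a central transvection.
-/

set_option autoImplicit false
set_option linter.style.haveILetI false
set_option linter.unusedSectionVars false

namespace Cfsg.Agent.L43Three.CaseB

open Subgroup

/-- A p-group containing a subgroup which is closed under its own normaliser at one element is
equal to it. -/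
theorem eq_of_rigid {X : Type*} [Group X] [Finite X] {p : ℕ} [Fact p.Prime] {U R : Subgroup X}
    (hR : IsPGroup p R) (hUR : U ≤ R) {z : X} (hz : z ∈ U)
    (h : ∀ g ∈ R, g * z * g⁻¹ ∈ U → g ∈ U) : R = U := by
  by_contra hne
  have hlt := Fusion.lt_inf_normalizer hR.isNilpotent (lt_of_le_of_ne hUR (Ne.symm hne))
  obtain ⟨g, hg, hgU⟩ := SetLike.exists_of_lt hlt
  exact hgU (h g hg.1 ((mem_normalizer_iff.1 hg.2 z).1 hz))

/-- A subgroup of prime power order with a central element rigid in it is a Sylow subgroup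
controlling its own fusion. -/
theorem controls_of_central {X : Type*} [Group X] [Finite X] {p : ℕ} [Fact p.Prime]
    {W : Subgroup X} (hW : IsPGroup p W) {z : X} (hz : z ∈ W)
    (hzc : ∀ w ∈ W, w * z = z * w) (hzg : ∀ g, g * z * g⁻¹ ∈ W → g ∈ W) :
    ∃ P : Sylow p X, (P : Subgroup X) = W ∧
      ∀ x ∈ P, ∀ g : X, g * x * g⁻¹ ∈ P → ∃ v ∈ P, v * x * v⁻¹ = g * x * g⁻¹ := by
  obtain ⟨P, hP⟩ := hW.exists_le_sylow
  have e : (P : Subgroup X) = W := eq_of_rigid P.isPGroup' hP hz fun g _ h => hzg g h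
  refine ⟨P, e, fun x hx g hg => ?_⟩
  change x ∈ (P : Subgroup X) at hx
  change g * x * g⁻¹ ∈ (P : Subgroup X) at hg
  rw [e] at hx hg
  set C : Subgroup X := centralizer ({g * x * g⁻¹} : Set X) with hC
  set U : Subgroup X := W ⊓ C with hU
  have hzU : z ∈ U := ⟨hz, mem_centralizer_singleton_iff.2 (hzc _ hg).symm⟩
  obtain ⟨R, hR⟩ := ((hW.to_le (inf_le_left : U ≤ W)).of_equiv
    (subgroupOfEquivOfLe (inf_le_right : U ≤ C)).symm).exists_le_sylow
  set R' : Subgroup X := (R : Subgroup C).map C.subtype with hR'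
  have hUR : U ≤ R' := fun y hy => ⟨⟨y, hy.2⟩, hR hy, rfl⟩
  have eR : R' = U := eq_of_rigid (R.isPGroup'.map _) hUR hzU fun h hh hc =>
    ⟨hzg h hc.1, map_subtype_le _ hh⟩
  have hyC : g * z * g⁻¹ ∈ C := mem_centralizer_singleton_iff.2 (by
    calc g * z * g⁻¹ * (g * x * g⁻¹) = g * (z * x) * g⁻¹ := by group
      _ = g * (x * z) * g⁻¹ := by rw [hzc x hx]
      _ = g * x * g⁻¹ * (g * z * g⁻¹) := by group)
  have hyp : IsPGroup p (zpowers (⟨g * z * g⁻¹, hyC⟩ : C)) := by
    obtain ⟨k, hk⟩ := hW ⟨z, hz⟩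
    obtain ⟨i, -, hi⟩ := (Nat.dvd_prime_pow (Fact.out : p.Prime)).1
      (orderOf_dvd_of_pow_eq_one (show (⟨g * z * g⁻¹, hyC⟩ : C) ^ p ^ k = 1 from Subtype.ext (by
        rw [coe_pow, conj_pow, show z ^ p ^ k = 1 from congrArg Subtype.val hk]
        simp)))
    exact IsPGroup.of_card (n := i) (by rw [Nat.card_zpowers, hi])
  obtain ⟨R₂, hR₂⟩ := hyp.exists_le_sylow
  obtain ⟨c, hc⟩ := MulAction.exists_smul_eq C R₂ R
  have hmem : c * ⟨g * z * g⁻¹, hyC⟩ * c⁻¹ ∈ (R : Subgroup C) := by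
    rw [← hc, Sylow.coe_subgroup_smul]
    exact ⟨_, hR₂ (mem_zpowers _), by simp [MulAut.smul_def]⟩
  have hin : (c : X) * g * z * ((c : X) * g)⁻¹ ∈ W := by
    have h1 : ((c * ⟨g * z * g⁻¹, hyC⟩ * c⁻¹ : C) : X) ∈ U := eR ▸ ⟨_, hmem, rfl⟩
    have h2 := h1.1
    simpa [mul_assoc] using h2
  refine ⟨(c : X) * g, ?_, ?_⟩
  · show (c : X) * g ∈ (P : Subgroup X)
    rw [e]
    exact hzg _ hin
  · have hcx := mem_centralizer_singleton_iff.1 c.2
    calc (c : X) * g * x * ((c : X) * g)⁻¹ = (c : X) * (g * x * g⁻¹) * (c : X)⁻¹ := by group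
      _ = g * x * g⁻¹ := by rw [hcx]; group

variable {G : Type*} [Group G] [Finite G]

/-- A subgroup of order prime to three normalised by a noncyclic abelian 3-group whose elements
have centralisers in `H` lies in `H`. -/
theorem le_of_coprime {H A K : Subgroup G} [IsMulCommutative A] (hA : ¬ IsCyclic A)
    (h3 : IsPGroup 3 A) (hAK : A ≤ normalizer (K : Set G)) (hK : ¬ 3 ∣ Nat.card K)
    (hAC : ∀ a ∈ A, a ≠ 1 → centralizer ({a} : Set G) ≤ H) : K ≤ H := by
  haveI : Fact (Nat.Prime 3) := ⟨Nat.prime_three⟩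
  obtain ⟨n, hn⟩ := h3.exists_card_eq
  have hcop : (Nat.card A).Coprime (Nat.card K) := by
    rw [hn]
    exact ((Nat.Prime.coprime_iff_not_dvd Nat.prime_three).2 hK).pow_left n
  rw [← CoprimeAct.generated_by_centralizers hA hAK hcop]
  exact iSup₂_le fun a ha => inf_le_right.trans (hAC a ha.1 ha.2)

/-- A subgroup meeting the image in a 3-group with a central transvection and a noncyclic abelian
subgroup with centralisers in the image lies in the image. -/
theorem Hyp.le_of_threeGroup (P : Hyp G) {X : Subgroup G}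
    (hW : IsPGroup 3 (X ⊓ P.f.range : Subgroup G)) {z : S4} (hzp : Pure z) (hz : P.f z ∈ X)
    (hzc : ∀ w ∈ X, w ∈ P.f.range → w * P.f z = P.f z * w)
    {A : Subgroup G} [IsMulCommutative A] (hA : ¬ IsCyclic A) (hAX : A ≤ X ⊓ P.f.range)
    (hAC : ∀ a ∈ A, a ≠ 1 → centralizer ({a} : Set G) ≤ P.f.range) : X ≤ P.f.range := by
  haveI : Fact (Nat.Prime 3) := ⟨Nat.prime_three⟩
  set W : Subgroup X := P.f.range.subgroupOf X with hWdef
  have hWm : W.map X.subtype = X ⊓ P.f.range := by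
    rw [hWdef, Subgroup.subgroupOf_map_subtype, inf_comm]
  have hWp : IsPGroup 3 W :=
    hW.of_equiv ((W.equivMapOfInjective _ X.subtype_injective).trans
      (MulEquiv.subgroupCongr hWm)).symm
  obtain ⟨S, hS, hfus⟩ := controls_of_central hWp (z := ⟨P.f z, hz⟩) (mem_subgroupOf.2 ⟨z, rfl⟩)
    (fun w hw => Subtype.ext (hzc w w.2 (mem_subgroupOf.1 hw)))
    (fun g hg => mem_subgroupOf.2 (P.mem_of_pure hzp (mem_subgroupOf.1 hg)))
  obtain ⟨Q, N, hN, hcompl⟩ := Fusion.hasNormalPComplement_of_controlsFusion S hfus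
  have hAn : A ≤ normalizer ((N.map X.subtype : Subgroup G) : Set G) := fun a ha => by
    have := le_normalizer_map X.subtype (H := N) ⟨⟨a, (hAX ha).1⟩, by
      rw [Subgroup.normalizer_eq_top_iff.2 hN]; exact mem_top _, rfl⟩
    exact this
  have h3 : ¬ 3 ∣ Nat.card (N.map X.subtype : Subgroup G) := by
    rw [card_map_of_injective X.subtype_injective, ← hcompl.index_eq_card]
    exact Q.not_dvd_index
  have hNH : N.map X.subtype ≤ P.f.range := le_of_coprime hA (hW.to_le hAX) hAn h3 hAC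
  have hNbot : N = ⊥ := by
    rw [← map_eq_bot_iff_of_injective N X.subtype_injective, ← Subgroup.card_eq_one]
    obtain ⟨m, hm⟩ := (hW.to_le (le_inf (map_subtype_le N) hNH)).exists_card_eq
    rcases Nat.eq_zero_or_pos m with h | h
    · rw [hm, h, pow_zero]
    · exact absurd (hm ▸ dvd_pow_self 3 h.ne') h3
  have hQ : (Q : Subgroup X) = ⊤ := by
    rw [hNbot] at hcompl
    exact isComplement'_bot_left.1 hcompl
  have hWtop : W = ⊤ := by
    rw [← hS, ← card_eq_iff_eq_top, Sylow.card_eq_multiplicity, ← Sylow.card_eq_multiplicity Q,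
      hQ, card_top]
  intro g hg
  exact mem_subgroupOf.1 (hWtop ▸ mem_top (⟨g, hg⟩ : X))

end Cfsg.Agent.L43Three.CaseB
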