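import Cfsg.Agent.Lib.L43Three.CaseB.CentX

/-!
S3373, case B: the diagonal automorphism and the second class of `1 + E₀₂ + E₁₃`.
-/

set_option autoImplicit false
set_option maxHeartbeats 400000
set_option linter.constructorNameAsVariable false
set_option linter.style.haveILetI false
set_option linter.unusedSectionVars false

namespace Cfsg.Agent.L43Three.CaseB

open Subgroup

/-- The code of `diag(1,-1,1,1)`. -/
def dlt : M4 :=
  ⟨⟨.o, .z, .z, .z⟩, ⟨.z, .d, .z, .z⟩, ⟨.z, .z, .o, .z⟩, ⟨.z, .z, .z, .o⟩⟩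

theorem M4.mul_assoc' (a b c : M4) : M4.mul (M4.mul a b) c = M4.mul a (M4.mul b c) :=
  M4.toMat_inj (by simp only [M4.toMat_mul, Matrix.mul_assoc])

theorem M4.mul_one' (a : M4) : M4.mul a M4.one = a :=
  M4.toMat_inj (by rw [M4.toMat_mul, M4.toMat_one, mul_one])

theorem M4.one_mul' (a : M4) : M4.mul M4.one a = a :=
  M4.toMat_inj (by rw [M4.toMat_mul, M4.toMat_one, one_mul])

theorem dlt_sq : M4.mul dlt dlt = M4.one := by decide +kernel

/-- The conjugate of a code by `diag(1,-1,1,1)`. -/
def twM (m : M4) : M4 := M4.mul (M4.mul dlt m) dlt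

theorem det_twM (x : S4) : (twM (code x)).det = .o := by
  refine F3.toK_inj ?_
  have h : dlt.toMat.det * dlt.toMat.det = 1 := by
    rw [← Matrix.det_mul, ← M4.toMat_mul, dlt_sq, M4.toMat_one, Matrix.det_one]
  rw [← M4.det_toMat, twM, M4.toMat_mul, M4.toMat_mul, Matrix.det_mul, Matrix.det_mul,
    mul_right_comm, h, one_mul, M4.det_toMat, det_code]

/-- The diagonal automorphism. -/
def sig : S4 →* S4 :=
  MonoidHom.mk' (fun x => mk4 (twM (code x)) (det_twM x)) fun x y => (mk4_mul_mk4 (by
    rw [code_mul]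
    refine M4.toMat_inj ?_
    have h : ∀ M : Matrix (Fin 4) (Fin 4) K, dlt.toMat * (dlt.toMat * M) = M := fun M => by
      rw [← Matrix.mul_assoc, ← M4.toMat_mul, dlt_sq, M4.toMat_one, one_mul]
    simp only [twM, M4.toMat_mul, Matrix.mul_assoc, h])).symm

theorem code_sig (x : S4) : code (sig x) = twM (code x) := code_mk4 _ (det_twM x)

theorem sig_sig (x : S4) : sig (sig x) = x := code_injective (by
  rw [code_sig, code_sig]
  refine M4.toMat_inj ?_
  have h : dlt.toMat * dlt.toMat = 1 := by rw [← M4.toMat_mul, dlt_sq, M4.toMat_one]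
  simp only [twM, M4.toMat_mul, Matrix.mul_assoc, h, mul_one]
  rw [← Matrix.mul_assoc, h, one_mul])

theorem sig_z4 : sig z4 = z4 := code_injective (by rw [code_sig, code_z4]; decide +kernel)

theorem sig_neg_one : sig (-1) = -1 :=
  code_injective (by rw [code_sig, code_neg, code_one]; decide +kernel)

theorem pure_sig {p : S4} (h : Pure p) : Pure (sig p) := by
  obtain ⟨a, rfl⟩ := h
  exact ⟨sig a, by rw [map_mul, map_mul, map_inv, sig_z4]⟩

namespace Hyp

variable {G : Type*} [Group G] [Finite G] (P : Hyp G)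
include P

/-- The hypotheses for the twisted homomorphism. -/
def twist : Hyp G where
  f := P.f.comp sig
  ker x := by
    rw [MonoidHom.comp_apply, P.ker]
    constructor
    · rintro (h | h)
      · exact Or.inl (by rw [← sig_sig x, h, map_one])
      · exact Or.inr (by rw [← sig_sig x, h, sig_neg_one])
    · rintro (rfl | rfl)
      · exact Or.inl (map_one _)
      · exact Or.inr sig_neg_one
  cent := by
    rw [MonoidHom.comp_apply, sig_z4]
    exact P.cent.trans fun g ⟨x, hx⟩ => ⟨sig x, by rw [MonoidHom.comp_apply, sig_sig, hx]⟩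
  fus x hx h := by
    rw [MonoidHom.comp_apply, MonoidHom.comp_apply, sig_z4] at h
    obtain ⟨a, ha⟩ := P.fus (sig x) (by rw [← map_pow, hx, map_one]) h
    refine ⟨sig a, ?_⟩
    have := congrArg sig ha
    rwa [map_mul, map_mul, map_inv, sig_z4, sig_sig] at this

/-- The centraliser of the twisted element lies in the image. -/
theorem centralizer_sig_x4 : centralizer ({P.f (sig x4)} : Set G) ≤ P.f.range :=
  P.twist.centralizer_x4.trans fun _ ⟨x, hx⟩ => ⟨sig x, hx⟩

end Hyp

end Cfsg.Agent.L43Three.CaseB
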